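import Cfsg.Agent.Lib.H17.Fi23Fi22.Tables

set_option autoImplicit false
set_option maxRecDepth 100000

/-! # Table checks for Fi23Fi22, part 6 (generated) -/

namespace Cfsg.Agent.Lib.H17.Fi23Fi22

open Cfsg.Spor Cfsg.Agent.Lib.H17.CosetCert Cfsg.Agent.Lib.H17.CoxGlue Cfsg.Agent.Lib.H17.Fi23Glue

theorem rngR48 : tabs.all (fun t => checkRangeG L t 31671 24000 500) = true := by
  decide +kernel

theorem relR48 : relT.all (fun ts => checkWordG L ts 24000 500) = true := by
  decide +kernel

theorem connR48 : checkConnG L gr tabs 24000 500 = true := by
  decide +kernel

theorem rngR49 : tabs.all (fun t => checkRangeG L t 31671 24500 500) = true := by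
  decide +kernel

theorem relR49 : relT.all (fun ts => checkWordG L ts 24500 500) = true := by
  decide +kernel

theorem connR49 : checkConnG L gr tabs 24500 500 = true := by
  decide +kernel

theorem rngR50 : tabs.all (fun t => checkRangeG L t 31671 25000 500) = true := by
  decide +kernel

theorem relR50 : relT.all (fun ts => checkWordG L ts 25000 500) = true := by
  decide +kernel

theorem connR50 : checkConnG L gr tabs 25000 500 = true := by
  decide +kernel

theorem rngR51 : tabs.all (fun t => checkRangeG L t 31671 25500 500) = true := by
  decide +kernel

theorem relR51 : relT.all (fun ts => checkWordG L ts 25500 500) = true := by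
  decide +kernel

theorem connR51 : checkConnG L gr tabs 25500 500 = true := by
  decide +kernel

theorem rngR52 : tabs.all (fun t => checkRangeG L t 31671 26000 500) = true := by
  decide +kernel

theorem relR52 : relT.all (fun ts => checkWordG L ts 26000 500) = true := by
  decide +kernel

theorem connR52 : checkConnG L gr tabs 26000 500 = true := by
  decide +kernel

theorem rngR53 : tabs.all (fun t => checkRangeG L t 31671 26500 500) = true := by
  decide +kernel

theorem relR53 : relT.all (fun ts => checkWordG L ts 26500 500) = true := by
  decide +kernel

theorem connR53 : checkConnG L gr tabs 26500 500 = true := by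
  decide +kernel

theorem rngR54 : tabs.all (fun t => checkRangeG L t 31671 27000 500) = true := by
  decide +kernel

theorem relR54 : relT.all (fun ts => checkWordG L ts 27000 500) = true := by
  decide +kernel

theorem connR54 : checkConnG L gr tabs 27000 500 = true := by
  decide +kernel

theorem rngR55 : tabs.all (fun t => checkRangeG L t 31671 27500 500) = true := by
  decide +kernel

theorem relR55 : relT.all (fun ts => checkWordG L ts 27500 500) = true := by
  decide +kernel

theorem connR55 : checkConnG L gr tabs 27500 500 = true := by
  decide +kernel

end Cfsg.Agent.Lib.H17.Fi23Fi22
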