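import Cfsg.Agent.Lib.H17.Fi23Fi22.Tables

set_option autoImplicit false
set_option maxRecDepth 100000

/-! # Table checks for Fi23Fi22, part 7 (generated) -/

namespace Cfsg.Agent.Lib.H17.Fi23Fi22

open Cfsg.Spor Cfsg.Agent.Lib.H17.CosetCert Cfsg.Agent.Lib.H17.CoxGlue Cfsg.Agent.Lib.H17.Fi23Glue

theorem rngR56 : tabs.all (fun t => checkRangeG L t 31671 28000 500) = true := by
  decide +kernel

theorem relR56 : relT.all (fun ts => checkWordG L ts 28000 500) = true := by
  decide +kernel

theorem connR56 : checkConnG L gr tabs 28000 500 = true := by
  decide +kernel

theorem rngR57 : tabs.all (fun t => checkRangeG L t 31671 28500 500) = true := by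
  decide +kernel

theorem relR57 : relT.all (fun ts => checkWordG L ts 28500 500) = true := by
  decide +kernel

theorem connR57 : checkConnG L gr tabs 28500 500 = true := by
  decide +kernel

theorem rngR58 : tabs.all (fun t => checkRangeG L t 31671 29000 500) = true := by
  decide +kernel

theorem relR58 : relT.all (fun ts => checkWordG L ts 29000 500) = true := by
  decide +kernel

theorem connR58 : checkConnG L gr tabs 29000 500 = true := by
  decide +kernel

theorem rngR59 : tabs.all (fun t => checkRangeG L t 31671 29500 500) = true := by
  decide +kernel

theorem relR59 : relT.all (fun ts => checkWordG L ts 29500 500) = true := by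
  decide +kernel

theorem connR59 : checkConnG L gr tabs 29500 500 = true := by
  decide +kernel

theorem rngR60 : tabs.all (fun t => checkRangeG L t 31671 30000 500) = true := by
  decide +kernel

theorem relR60 : relT.all (fun ts => checkWordG L ts 30000 500) = true := by
  decide +kernel

theorem connR60 : checkConnG L gr tabs 30000 500 = true := by
  decide +kernel

theorem rngR61 : tabs.all (fun t => checkRangeG L t 31671 30500 500) = true := by
  decide +kernel

theorem relR61 : relT.all (fun ts => checkWordG L ts 30500 500) = true := by
  decide +kernel

theorem connR61 : checkConnG L gr tabs 30500 500 = true := by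
  decide +kernel

theorem rngR62 : tabs.all (fun t => checkRangeG L t 31671 31000 500) = true := by
  decide +kernel

theorem relR62 : relT.all (fun ts => checkWordG L ts 31000 500) = true := by
  decide +kernel

theorem connR62 : checkConnG L gr tabs 31000 500 = true := by
  decide +kernel

theorem rngR63 : tabs.all (fun t => checkRangeG L t 31671 31500 171) = true := by
  decide +kernel

theorem relR63 : relT.all (fun ts => checkWordG L ts 31500 171) = true := by
  decide +kernel

theorem connR63 : checkConnG L gr tabs 31500 171 = true := by
  decide +kernel

end Cfsg.Agent.Lib.H17.Fi23Fi22
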