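import Cfsg.Agent.Lib.H17.Fi23Fi22.Upper
import Cfsg.Agent.Lib.H17.Fi23Fi22.ChkA
import Cfsg.Agent.Lib.H17.Fi23Fi22.ChkB
import Cfsg.Agent.Lib.H17.Fi23Fi22.ChkC
import Cfsg.Agent.Lib.H17.Fi23Fi22.ChkD
import Cfsg.Agent.Lib.H17.Fi23Fi22.ChkE
import Cfsg.Agent.Lib.H17.Fi23Fi22.ChkF
import Cfsg.Agent.Lib.H17.Fi23Fi22.ChkG
import Cfsg.Agent.Lib.H17.Fi23Fi22.ChkH

set_option autoImplicit false
set_option maxRecDepth 100000

/-! # The index, Fi23Fi22 (generated) -/

namespace Cfsg.Agent.Lib.H17.Fi23Fi22

open Cfsg.Spor Cfsg.Agent.Lib.H17.CosetCert Cfsg.Agent.Lib.H17.CoxGlue Cfsg.Agent.Lib.H17.Fi23Glue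

theorem rng_all : ∀ t ∈ tabs, ∀ i < 31671, lk 15 32768 t i < 31671 := by
  intro t ht i hi
  have hc : i / 500 < 64 := by omega
  interval_cases hq : i / 500
  · exact L_eq t i ▸ checkRangeG_sound L t _ _ _ (List.all_eq_true.mp rngR0 t ht) i (by omega) (by omega)
  · exact L_eq t i ▸ checkRangeG_sound L t _ _ _ (List.all_eq_true.mp rngR1 t ht) i (by omega) (by omega)
  · exact L_eq t i ▸ checkRangeG_sound L t _ _ _ (List.all_eq_true.mp rngR2 t ht) i (by omega) (by omega)
  · exact L_eq t i ▸ checkRangeG_sound L t _ _ _ (List.all_eq_true.mp rngR3 t ht) i (by omega) (by omega)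
  · exact L_eq t i ▸ checkRangeG_sound L t _ _ _ (List.all_eq_true.mp rngR4 t ht) i (by omega) (by omega)
  · exact L_eq t i ▸ checkRangeG_sound L t _ _ _ (List.all_eq_true.mp rngR5 t ht) i (by omega) (by omega)
  · exact L_eq t i ▸ checkRangeG_sound L t _ _ _ (List.all_eq_true.mp rngR6 t ht) i (by omega) (by omega)
  · exact L_eq t i ▸ checkRangeG_sound L t _ _ _ (List.all_eq_true.mp rngR7 t ht) i (by omega) (by omega)
  · exact L_eq t i ▸ checkRangeG_sound L t _ _ _ (List.all_eq_true.mp rngR8 t ht) i (by omega) (by omega)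
  · exact L_eq t i ▸ checkRangeG_sound L t _ _ _ (List.all_eq_true.mp rngR9 t ht) i (by omega) (by omega)
  · exact L_eq t i ▸ checkRangeG_sound L t _ _ _ (List.all_eq_true.mp rngR10 t ht) i (by omega) (by omega)
  · exact L_eq t i ▸ checkRangeG_sound L t _ _ _ (List.all_eq_true.mp rngR11 t ht) i (by omega) (by omega)
  · exact L_eq t i ▸ checkRangeG_sound L t _ _ _ (List.all_eq_true.mp rngR12 t ht) i (by omega) (by omega)
  · exact L_eq t i ▸ checkRangeG_sound L t _ _ _ (List.all_eq_true.mp rngR13 t ht) i (by omega) (by omega)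
  · exact L_eq t i ▸ checkRangeG_sound L t _ _ _ (List.all_eq_true.mp rngR14 t ht) i (by omega) (by omega)
  · exact L_eq t i ▸ checkRangeG_sound L t _ _ _ (List.all_eq_true.mp rngR15 t ht) i (by omega) (by omega)
  · exact L_eq t i ▸ checkRangeG_sound L t _ _ _ (List.all_eq_true.mp rngR16 t ht) i (by omega) (by omega)
  · exact L_eq t i ▸ checkRangeG_sound L t _ _ _ (List.all_eq_true.mp rngR17 t ht) i (by omega) (by omega)
  · exact L_eq t i ▸ checkRangeG_sound L t _ _ _ (List.all_eq_true.mp rngR18 t ht) i (by omega) (by omega)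
  · exact L_eq t i ▸ checkRangeG_sound L t _ _ _ (List.all_eq_true.mp rngR19 t ht) i (by omega) (by omega)
  · exact L_eq t i ▸ checkRangeG_sound L t _ _ _ (List.all_eq_true.mp rngR20 t ht) i (by omega) (by omega)
  · exact L_eq t i ▸ checkRangeG_sound L t _ _ _ (List.all_eq_true.mp rngR21 t ht) i (by omega) (by omega)
  · exact L_eq t i ▸ checkRangeG_sound L t _ _ _ (List.all_eq_true.mp rngR22 t ht) i (by omega) (by omega)
  · exact L_eq t i ▸ checkRangeG_sound L t _ _ _ (List.all_eq_true.mp rngR23 t ht) i (by omega) (by omega)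
  · exact L_eq t i ▸ checkRangeG_sound L t _ _ _ (List.all_eq_true.mp rngR24 t ht) i (by omega) (by omega)
  · exact L_eq t i ▸ checkRangeG_sound L t _ _ _ (List.all_eq_true.mp rngR25 t ht) i (by omega) (by omega)
  · exact L_eq t i ▸ checkRangeG_sound L t _ _ _ (List.all_eq_true.mp rngR26 t ht) i (by omega) (by omega)
  · exact L_eq t i ▸ checkRangeG_sound L t _ _ _ (List.all_eq_true.mp rngR27 t ht) i (by omega) (by omega)
  · exact L_eq t i ▸ checkRangeG_sound L t _ _ _ (List.all_eq_true.mp rngR28 t ht) i (by omega) (by omega)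
  · exact L_eq t i ▸ checkRangeG_sound L t _ _ _ (List.all_eq_true.mp rngR29 t ht) i (by omega) (by omega)
  · exact L_eq t i ▸ checkRangeG_sound L t _ _ _ (List.all_eq_true.mp rngR30 t ht) i (by omega) (by omega)
  · exact L_eq t i ▸ checkRangeG_sound L t _ _ _ (List.all_eq_true.mp rngR31 t ht) i (by omega) (by omega)
  · exact L_eq t i ▸ checkRangeG_sound L t _ _ _ (List.all_eq_true.mp rngR32 t ht) i (by omega) (by omega)
  · exact L_eq t i ▸ checkRangeG_sound L t _ _ _ (List.all_eq_true.mp rngR33 t ht) i (by omega) (by omega)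
  · exact L_eq t i ▸ checkRangeG_sound L t _ _ _ (List.all_eq_true.mp rngR34 t ht) i (by omega) (by omega)
  · exact L_eq t i ▸ checkRangeG_sound L t _ _ _ (List.all_eq_true.mp rngR35 t ht) i (by omega) (by omega)
  · exact L_eq t i ▸ checkRangeG_sound L t _ _ _ (List.all_eq_true.mp rngR36 t ht) i (by omega) (by omega)
  · exact L_eq t i ▸ checkRangeG_sound L t _ _ _ (List.all_eq_true.mp rngR37 t ht) i (by omega) (by omega)
  · exact L_eq t i ▸ checkRangeG_sound L t _ _ _ (List.all_eq_true.mp rngR38 t ht) i (by omega) (by omega)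
  · exact L_eq t i ▸ checkRangeG_sound L t _ _ _ (List.all_eq_true.mp rngR39 t ht) i (by omega) (by omega)
  · exact L_eq t i ▸ checkRangeG_sound L t _ _ _ (List.all_eq_true.mp rngR40 t ht) i (by omega) (by omega)
  · exact L_eq t i ▸ checkRangeG_sound L t _ _ _ (List.all_eq_true.mp rngR41 t ht) i (by omega) (by omega)
  · exact L_eq t i ▸ checkRangeG_sound L t _ _ _ (List.all_eq_true.mp rngR42 t ht) i (by omega) (by omega)
  · exact L_eq t i ▸ checkRangeG_sound L t _ _ _ (List.all_eq_true.mp rngR43 t ht) i (by omega) (by omega)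
  · exact L_eq t i ▸ checkRangeG_sound L t _ _ _ (List.all_eq_true.mp rngR44 t ht) i (by omega) (by omega)
  · exact L_eq t i ▸ checkRangeG_sound L t _ _ _ (List.all_eq_true.mp rngR45 t ht) i (by omega) (by omega)
  · exact L_eq t i ▸ checkRangeG_sound L t _ _ _ (List.all_eq_true.mp rngR46 t ht) i (by omega) (by omega)
  · exact L_eq t i ▸ checkRangeG_sound L t _ _ _ (List.all_eq_true.mp rngR47 t ht) i (by omega) (by omega)
  · exact L_eq t i ▸ checkRangeG_sound L t _ _ _ (List.all_eq_true.mp rngR48 t ht) i (by omega) (by omega)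
  · exact L_eq t i ▸ checkRangeG_sound L t _ _ _ (List.all_eq_true.mp rngR49 t ht) i (by omega) (by omega)
  · exact L_eq t i ▸ checkRangeG_sound L t _ _ _ (List.all_eq_true.mp rngR50 t ht) i (by omega) (by omega)
  · exact L_eq t i ▸ checkRangeG_sound L t _ _ _ (List.all_eq_true.mp rngR51 t ht) i (by omega) (by omega)
  · exact L_eq t i ▸ checkRangeG_sound L t _ _ _ (List.all_eq_true.mp rngR52 t ht) i (by omega) (by omega)
  · exact L_eq t i ▸ checkRangeG_sound L t _ _ _ (List.all_eq_true.mp rngR53 t ht) i (by omega) (by omega)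
  · exact L_eq t i ▸ checkRangeG_sound L t _ _ _ (List.all_eq_true.mp rngR54 t ht) i (by omega) (by omega)
  · exact L_eq t i ▸ checkRangeG_sound L t _ _ _ (List.all_eq_true.mp rngR55 t ht) i (by omega) (by omega)
  · exact L_eq t i ▸ checkRangeG_sound L t _ _ _ (List.all_eq_true.mp rngR56 t ht) i (by omega) (by omega)
  · exact L_eq t i ▸ checkRangeG_sound L t _ _ _ (List.all_eq_true.mp rngR57 t ht) i (by omega) (by omega)
  · exact L_eq t i ▸ checkRangeG_sound L t _ _ _ (List.all_eq_true.mp rngR58 t ht) i (by omega) (by omega)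
  · exact L_eq t i ▸ checkRangeG_sound L t _ _ _ (List.all_eq_true.mp rngR59 t ht) i (by omega) (by omega)
  · exact L_eq t i ▸ checkRangeG_sound L t _ _ _ (List.all_eq_true.mp rngR60 t ht) i (by omega) (by omega)
  · exact L_eq t i ▸ checkRangeG_sound L t _ _ _ (List.all_eq_true.mp rngR61 t ht) i (by omega) (by omega)
  · exact L_eq t i ▸ checkRangeG_sound L t _ _ _ (List.all_eq_true.mp rngR62 t ht) i (by omega) (by omega)
  · exact L_eq t i ▸ checkRangeG_sound L t _ _ _ (List.all_eq_true.mp rngR63 t ht) i (by omega) (by omega)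

theorem rel_all : ∀ ts ∈ relT, ∀ i < 31671, applyT 15 32768 ts i = i := by
  intro ts hts i hi
  have hc : i / 500 < 64 := by omega
  interval_cases hq : i / 500
  · exact applyL_eq ts i ▸ checkWordG_sound L ts _ _ (List.all_eq_true.mp relR0 ts hts) i (by omega) (by omega)
  · exact applyL_eq ts i ▸ checkWordG_sound L ts _ _ (List.all_eq_true.mp relR1 ts hts) i (by omega) (by omega)
  · exact applyL_eq ts i ▸ checkWordG_sound L ts _ _ (List.all_eq_true.mp relR2 ts hts) i (by omega) (by omega)
  · exact applyL_eq ts i ▸ checkWordG_sound L ts _ _ (List.all_eq_true.mp relR3 ts hts) i (by omega) (by omega)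
  · exact applyL_eq ts i ▸ checkWordG_sound L ts _ _ (List.all_eq_true.mp relR4 ts hts) i (by omega) (by omega)
  · exact applyL_eq ts i ▸ checkWordG_sound L ts _ _ (List.all_eq_true.mp relR5 ts hts) i (by omega) (by omega)
  · exact applyL_eq ts i ▸ checkWordG_sound L ts _ _ (List.all_eq_true.mp relR6 ts hts) i (by omega) (by omega)
  · exact applyL_eq ts i ▸ checkWordG_sound L ts _ _ (List.all_eq_true.mp relR7 ts hts) i (by omega) (by omega)
  · exact applyL_eq ts i ▸ checkWordG_sound L ts _ _ (List.all_eq_true.mp relR8 ts hts) i (by omega) (by omega)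
  · exact applyL_eq ts i ▸ checkWordG_sound L ts _ _ (List.all_eq_true.mp relR9 ts hts) i (by omega) (by omega)
  · exact applyL_eq ts i ▸ checkWordG_sound L ts _ _ (List.all_eq_true.mp relR10 ts hts) i (by omega) (by omega)
  · exact applyL_eq ts i ▸ checkWordG_sound L ts _ _ (List.all_eq_true.mp relR11 ts hts) i (by omega) (by omega)
  · exact applyL_eq ts i ▸ checkWordG_sound L ts _ _ (List.all_eq_true.mp relR12 ts hts) i (by omega) (by omega)
  · exact applyL_eq ts i ▸ checkWordG_sound L ts _ _ (List.all_eq_true.mp relR13 ts hts) i (by omega) (by omega)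
  · exact applyL_eq ts i ▸ checkWordG_sound L ts _ _ (List.all_eq_true.mp relR14 ts hts) i (by omega) (by omega)
  · exact applyL_eq ts i ▸ checkWordG_sound L ts _ _ (List.all_eq_true.mp relR15 ts hts) i (by omega) (by omega)
  · exact applyL_eq ts i ▸ checkWordG_sound L ts _ _ (List.all_eq_true.mp relR16 ts hts) i (by omega) (by omega)
  · exact applyL_eq ts i ▸ checkWordG_sound L ts _ _ (List.all_eq_true.mp relR17 ts hts) i (by omega) (by omega)
  · exact applyL_eq ts i ▸ checkWordG_sound L ts _ _ (List.all_eq_true.mp relR18 ts hts) i (by omega) (by omega)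
  · exact applyL_eq ts i ▸ checkWordG_sound L ts _ _ (List.all_eq_true.mp relR19 ts hts) i (by omega) (by omega)
  · exact applyL_eq ts i ▸ checkWordG_sound L ts _ _ (List.all_eq_true.mp relR20 ts hts) i (by omega) (by omega)
  · exact applyL_eq ts i ▸ checkWordG_sound L ts _ _ (List.all_eq_true.mp relR21 ts hts) i (by omega) (by omega)
  · exact applyL_eq ts i ▸ checkWordG_sound L ts _ _ (List.all_eq_true.mp relR22 ts hts) i (by omega) (by omega)
  · exact applyL_eq ts i ▸ checkWordG_sound L ts _ _ (List.all_eq_true.mp relR23 ts hts) i (by omega) (by omega)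
  · exact applyL_eq ts i ▸ checkWordG_sound L ts _ _ (List.all_eq_true.mp relR24 ts hts) i (by omega) (by omega)
  · exact applyL_eq ts i ▸ checkWordG_sound L ts _ _ (List.all_eq_true.mp relR25 ts hts) i (by omega) (by omega)
  · exact applyL_eq ts i ▸ checkWordG_sound L ts _ _ (List.all_eq_true.mp relR26 ts hts) i (by omega) (by omega)
  · exact applyL_eq ts i ▸ checkWordG_sound L ts _ _ (List.all_eq_true.mp relR27 ts hts) i (by omega) (by omega)
  · exact applyL_eq ts i ▸ checkWordG_sound L ts _ _ (List.all_eq_true.mp relR28 ts hts) i (by omega) (by omega)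
  · exact applyL_eq ts i ▸ checkWordG_sound L ts _ _ (List.all_eq_true.mp relR29 ts hts) i (by omega) (by omega)
  · exact applyL_eq ts i ▸ checkWordG_sound L ts _ _ (List.all_eq_true.mp relR30 ts hts) i (by omega) (by omega)
  · exact applyL_eq ts i ▸ checkWordG_sound L ts _ _ (List.all_eq_true.mp relR31 ts hts) i (by omega) (by omega)
  · exact applyL_eq ts i ▸ checkWordG_sound L ts _ _ (List.all_eq_true.mp relR32 ts hts) i (by omega) (by omega)
  · exact applyL_eq ts i ▸ checkWordG_sound L ts _ _ (List.all_eq_true.mp relR33 ts hts) i (by omega) (by omega)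
  · exact applyL_eq ts i ▸ checkWordG_sound L ts _ _ (List.all_eq_true.mp relR34 ts hts) i (by omega) (by omega)
  · exact applyL_eq ts i ▸ checkWordG_sound L ts _ _ (List.all_eq_true.mp relR35 ts hts) i (by omega) (by omega)
  · exact applyL_eq ts i ▸ checkWordG_sound L ts _ _ (List.all_eq_true.mp relR36 ts hts) i (by omega) (by omega)
  · exact applyL_eq ts i ▸ checkWordG_sound L ts _ _ (List.all_eq_true.mp relR37 ts hts) i (by omega) (by omega)
  · exact applyL_eq ts i ▸ checkWordG_sound L ts _ _ (List.all_eq_true.mp relR38 ts hts) i (by omega) (by omega)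
  · exact applyL_eq ts i ▸ checkWordG_sound L ts _ _ (List.all_eq_true.mp relR39 ts hts) i (by omega) (by omega)
  · exact applyL_eq ts i ▸ checkWordG_sound L ts _ _ (List.all_eq_true.mp relR40 ts hts) i (by omega) (by omega)
  · exact applyL_eq ts i ▸ checkWordG_sound L ts _ _ (List.all_eq_true.mp relR41 ts hts) i (by omega) (by omega)
  · exact applyL_eq ts i ▸ checkWordG_sound L ts _ _ (List.all_eq_true.mp relR42 ts hts) i (by omega) (by omega)
  · exact applyL_eq ts i ▸ checkWordG_sound L ts _ _ (List.all_eq_true.mp relR43 ts hts) i (by omega) (by omega)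
  · exact applyL_eq ts i ▸ checkWordG_sound L ts _ _ (List.all_eq_true.mp relR44 ts hts) i (by omega) (by omega)
  · exact applyL_eq ts i ▸ checkWordG_sound L ts _ _ (List.all_eq_true.mp relR45 ts hts) i (by omega) (by omega)
  · exact applyL_eq ts i ▸ checkWordG_sound L ts _ _ (List.all_eq_true.mp relR46 ts hts) i (by omega) (by omega)
  · exact applyL_eq ts i ▸ checkWordG_sound L ts _ _ (List.all_eq_true.mp relR47 ts hts) i (by omega) (by omega)
  · exact applyL_eq ts i ▸ checkWordG_sound L ts _ _ (List.all_eq_true.mp relR48 ts hts) i (by omega) (by omega)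
  · exact applyL_eq ts i ▸ checkWordG_sound L ts _ _ (List.all_eq_true.mp relR49 ts hts) i (by omega) (by omega)
  · exact applyL_eq ts i ▸ checkWordG_sound L ts _ _ (List.all_eq_true.mp relR50 ts hts) i (by omega) (by omega)
  · exact applyL_eq ts i ▸ checkWordG_sound L ts _ _ (List.all_eq_true.mp relR51 ts hts) i (by omega) (by omega)
  · exact applyL_eq ts i ▸ checkWordG_sound L ts _ _ (List.all_eq_true.mp relR52 ts hts) i (by omega) (by omega)
  · exact applyL_eq ts i ▸ checkWordG_sound L ts _ _ (List.all_eq_true.mp relR53 ts hts) i (by omega) (by omega)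
  · exact applyL_eq ts i ▸ checkWordG_sound L ts _ _ (List.all_eq_true.mp relR54 ts hts) i (by omega) (by omega)
  · exact applyL_eq ts i ▸ checkWordG_sound L ts _ _ (List.all_eq_true.mp relR55 ts hts) i (by omega) (by omega)
  · exact applyL_eq ts i ▸ checkWordG_sound L ts _ _ (List.all_eq_true.mp relR56 ts hts) i (by omega) (by omega)
  · exact applyL_eq ts i ▸ checkWordG_sound L ts _ _ (List.all_eq_true.mp relR57 ts hts) i (by omega) (by omega)
  · exact applyL_eq ts i ▸ checkWordG_sound L ts _ _ (List.all_eq_true.mp relR58 ts hts) i (by omega) (by omega)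
  · exact applyL_eq ts i ▸ checkWordG_sound L ts _ _ (List.all_eq_true.mp relR59 ts hts) i (by omega) (by omega)
  · exact applyL_eq ts i ▸ checkWordG_sound L ts _ _ (List.all_eq_true.mp relR60 ts hts) i (by omega) (by omega)
  · exact applyL_eq ts i ▸ checkWordG_sound L ts _ _ (List.all_eq_true.mp relR61 ts hts) i (by omega) (by omega)
  · exact applyL_eq ts i ▸ checkWordG_sound L ts _ _ (List.all_eq_true.mp relR62 ts hts) i (by omega) (by omega)
  · exact applyL_eq ts i ▸ checkWordG_sound L ts _ _ (List.all_eq_true.mp relR63 ts hts) i (by omega) (by omega)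

theorem conn_allL : ∀ i < 31671, i ≠ 0 → ∃ t ∈ tabs, L gr (L t i) < L gr i := by
  intro i hi
  have hc : i / 500 < 64 := by omega
  interval_cases hq : i / 500
  · exact checkConnG_sound L gr tabs _ _ connR0 i (by omega) (by omega)
  · exact checkConnG_sound L gr tabs _ _ connR1 i (by omega) (by omega)
  · exact checkConnG_sound L gr tabs _ _ connR2 i (by omega) (by omega)
  · exact checkConnG_sound L gr tabs _ _ connR3 i (by omega) (by omega)
  · exact checkConnG_sound L gr tabs _ _ connR4 i (by omega) (by omega)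
  · exact checkConnG_sound L gr tabs _ _ connR5 i (by omega) (by omega)
  · exact checkConnG_sound L gr tabs _ _ connR6 i (by omega) (by omega)
  · exact checkConnG_sound L gr tabs _ _ connR7 i (by omega) (by omega)
  · exact checkConnG_sound L gr tabs _ _ connR8 i (by omega) (by omega)
  · exact checkConnG_sound L gr tabs _ _ connR9 i (by omega) (by omega)
  · exact checkConnG_sound L gr tabs _ _ connR10 i (by omega) (by omega)
  · exact checkConnG_sound L gr tabs _ _ connR11 i (by omega) (by omega)
  · exact checkConnG_sound L gr tabs _ _ connR12 i (by omega) (by omega)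
  · exact checkConnG_sound L gr tabs _ _ connR13 i (by omega) (by omega)
  · exact checkConnG_sound L gr tabs _ _ connR14 i (by omega) (by omega)
  · exact checkConnG_sound L gr tabs _ _ connR15 i (by omega) (by omega)
  · exact checkConnG_sound L gr tabs _ _ connR16 i (by omega) (by omega)
  · exact checkConnG_sound L gr tabs _ _ connR17 i (by omega) (by omega)
  · exact checkConnG_sound L gr tabs _ _ connR18 i (by omega) (by omega)
  · exact checkConnG_sound L gr tabs _ _ connR19 i (by omega) (by omega)
  · exact checkConnG_sound L gr tabs _ _ connR20 i (by omega) (by omega)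
  · exact checkConnG_sound L gr tabs _ _ connR21 i (by omega) (by omega)
  · exact checkConnG_sound L gr tabs _ _ connR22 i (by omega) (by omega)
  · exact checkConnG_sound L gr tabs _ _ connR23 i (by omega) (by omega)
  · exact checkConnG_sound L gr tabs _ _ connR24 i (by omega) (by omega)
  · exact checkConnG_sound L gr tabs _ _ connR25 i (by omega) (by omega)
  · exact checkConnG_sound L gr tabs _ _ connR26 i (by omega) (by omega)
  · exact checkConnG_sound L gr tabs _ _ connR27 i (by omega) (by omega)
  · exact checkConnG_sound L gr tabs _ _ connR28 i (by omega) (by omega)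
  · exact checkConnG_sound L gr tabs _ _ connR29 i (by omega) (by omega)
  · exact checkConnG_sound L gr tabs _ _ connR30 i (by omega) (by omega)
  · exact checkConnG_sound L gr tabs _ _ connR31 i (by omega) (by omega)
  · exact checkConnG_sound L gr tabs _ _ connR32 i (by omega) (by omega)
  · exact checkConnG_sound L gr tabs _ _ connR33 i (by omega) (by omega)
  · exact checkConnG_sound L gr tabs _ _ connR34 i (by omega) (by omega)
  · exact checkConnG_sound L gr tabs _ _ connR35 i (by omega) (by omega)
  · exact checkConnG_sound L gr tabs _ _ connR36 i (by omega) (by omega)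
  · exact checkConnG_sound L gr tabs _ _ connR37 i (by omega) (by omega)
  · exact checkConnG_sound L gr tabs _ _ connR38 i (by omega) (by omega)
  · exact checkConnG_sound L gr tabs _ _ connR39 i (by omega) (by omega)
  · exact checkConnG_sound L gr tabs _ _ connR40 i (by omega) (by omega)
  · exact checkConnG_sound L gr tabs _ _ connR41 i (by omega) (by omega)
  · exact checkConnG_sound L gr tabs _ _ connR42 i (by omega) (by omega)
  · exact checkConnG_sound L gr tabs _ _ connR43 i (by omega) (by omega)
  · exact checkConnG_sound L gr tabs _ _ connR44 i (by omega) (by omega)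
  · exact checkConnG_sound L gr tabs _ _ connR45 i (by omega) (by omega)
  · exact checkConnG_sound L gr tabs _ _ connR46 i (by omega) (by omega)
  · exact checkConnG_sound L gr tabs _ _ connR47 i (by omega) (by omega)
  · exact checkConnG_sound L gr tabs _ _ connR48 i (by omega) (by omega)
  · exact checkConnG_sound L gr tabs _ _ connR49 i (by omega) (by omega)
  · exact checkConnG_sound L gr tabs _ _ connR50 i (by omega) (by omega)
  · exact checkConnG_sound L gr tabs _ _ connR51 i (by omega) (by omega)
  · exact checkConnG_sound L gr tabs _ _ connR52 i (by omega) (by omega)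
  · exact checkConnG_sound L gr tabs _ _ connR53 i (by omega) (by omega)
  · exact checkConnG_sound L gr tabs _ _ connR54 i (by omega) (by omega)
  · exact checkConnG_sound L gr tabs _ _ connR55 i (by omega) (by omega)
  · exact checkConnG_sound L gr tabs _ _ connR56 i (by omega) (by omega)
  · exact checkConnG_sound L gr tabs _ _ connR57 i (by omega) (by omega)
  · exact checkConnG_sound L gr tabs _ _ connR58 i (by omega) (by omega)
  · exact checkConnG_sound L gr tabs _ _ connR59 i (by omega) (by omega)
  · exact checkConnG_sound L gr tabs _ _ connR60 i (by omega) (by omega)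
  · exact checkConnG_sound L gr tabs _ _ connR61 i (by omega) (by omega)
  · exact checkConnG_sound L gr tabs _ _ connR62 i (by omega) (by omega)
  · exact checkConnG_sound L gr tabs _ _ connR63 i (by omega) (by omega)

theorem conn_all : ∀ i < 31671, i ≠ 0 → ∃ t ∈ tabs, lk 15 32768 gr (lk 15 32768 t i) < lk 15 32768 gr i := by
  intro i hi hi0
  obtain ⟨t, ht, h⟩ := conn_allL i hi hi0
  simp only [L_eq] at h
  exact ⟨t, ht, h⟩

/-- the table of a generator -/
def tabOf : Gen → ℕ
  | .a => tab0
  | .b => tab1
  | .c => tab2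
  | .d => tab3
  | .e => tab4
  | .f => tab5
  | .g => tab6
  | .j => tab7
  | .h => tab8
  | .i => tab9

/-- the permutation of a generator -/
noncomputable def σ' (u : Gen) : Equiv.Perm (Fin 31671) := σ 15 32768 31671 (tabOf u)

theorem σ'_mul_self (u : Gen) : σ' u * σ' u = 1 := σ_mul_self _ _ _ _

theorem good_tabs : ∀ t ∈ tabs, Good 15 32768 31671 t := by
  intro t ht
  refine good_of_fix _ _ _ t (rng_all t ht) ?_
  obtain ⟨k, hk, rfl⟩ := List.getElem_of_mem ht
  have hk' : k < 10 := hk
  interval_cases k
  · exact rel_all relT47 (by simp [relT])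
  · exact rel_all relT48 (by simp [relT])
  · exact rel_all relT49 (by simp [relT])
  · exact rel_all relT50 (by simp [relT])
  · exact rel_all relT51 (by simp [relT])
  · exact rel_all relT52 (by simp [relT])
  · exact rel_all relT53 (by simp [relT])
  · exact rel_all relT54 (by simp [relT])
  · exact rel_all relT55 (by simp [relT])
  · exact rel_all relT56 (by simp [relT])

theorem tabOf_mem (u : Gen) : tabOf u ∈ tabs := by
  cases u <;> simp [tabOf, tabs]

theorem relT_eq : relT = relW.map (fun w => w.map (fun x => tabOf (gen x))) := by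
  rfl

theorem good_of_word (w : List ℕ) : ∀ t ∈ w.map (fun x => tabOf (gen x)), Good 15 32768 31671 t := by
  intro t ht
  obtain ⟨x, -, rfl⟩ := List.mem_map.mp ht
  exact good_tabs _ (tabOf_mem _)

theorem σ'_words : ∀ w ∈ relW, ((w.map gen).map σ').prod = 1 := by
  intro w hw
  have hmem : w.map (fun x => tabOf (gen x)) ∈ relT := by
    rw [relT_eq]
    exact List.mem_map_of_mem hw
  have := prod_eq_one_of_fix 15 32768 31671 _ (good_of_word w) (rel_all _ hmem)
  rw [List.map_map] at this ⊢
  exact this

/-- the permutation representation on the cosets -/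
noncomputable def φ : G →* Equiv.Perm (Fin 31671) :=
  PresentedGroup.toGroup (f := σ') (lift_rels σ' σ'_mul_self σ'_words)

theorem φ_of (u : Gen) : φ (PresentedGroup.of u) = σ' u := PresentedGroup.toGroup.of _

theorem φ_mk (L : List (Gen × Bool)) : φ (PresentedGroup.mk rels (FreeGroup.mk L)) =
    (((L.map Prod.fst).map tabOf).map (σ 15 32768 31671)).prod := by
  have : φ (PresentedGroup.mk rels (FreeGroup.mk L)) = FreeGroup.lift σ' (FreeGroup.mk L) := rfl
  rw [this, lift_mk_of_invol σ' σ'_mul_self]
  simp only [List.map_map]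
  rfl

/-- the base point -/
def z : Fin 31671 := ⟨0, by decide⟩

theorem φ_trans : ∀ i : Fin 31671, ∃ g : G, φ g z = i := by
  apply trans_of_conn' 15 32768 31671 (by decide) φ gr tabs good_tabs _ conn_all
  intro t ht
  obtain ⟨k, hk, rfl⟩ := List.getElem_of_mem ht
  have hk' : k < 10 := hk
  interval_cases k
  · exact ⟨PresentedGroup.of .a, φ_of _⟩
  · exact ⟨PresentedGroup.of .b, φ_of _⟩
  · exact ⟨PresentedGroup.of .c, φ_of _⟩
  · exact ⟨PresentedGroup.of .d, φ_of _⟩
  · exact ⟨PresentedGroup.of .e, φ_of _⟩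
  · exact ⟨PresentedGroup.of .f, φ_of _⟩
  · exact ⟨PresentedGroup.of .g, φ_of _⟩
  · exact ⟨PresentedGroup.of .j, φ_of _⟩
  · exact ⟨PresentedGroup.of .h, φ_of _⟩
  · exact ⟨PresentedGroup.of .i, φ_of _⟩

theorem fix_of_apply (ts : List ℕ) (hg : ∀ t ∈ ts, Good 15 32768 31671 t)
    (h : applyT 15 32768 ts 0 = 0) : (ts.map (σ 15 32768 31671)).prod z = z := by
  have h1 : ((ts.map (σ 15 32768 31671)).reverse.prod) z = z := by
    apply Fin.ext
    rw [prod_reverse_apply 15 32768 31671 ts hg z]
    exact h
  rw [prod_reverse_of_invol_list _ (by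
    intro g hg'
    obtain ⟨t, -, rfl⟩ := List.mem_map.mp hg'
    exact σ_mul_self _ _ _ t)] at h1
  have h2 : (ts.map (σ 15 32768 31671)).prod (((ts.map (σ 15 32768 31671)).prod)⁻¹ z) = z := by simp
  rw [h1] at h2
  exact h2

theorem good_of_letters (L : List (Gen × Bool)) :
    ∀ t ∈ (L.map Prod.fst).map tabOf, Good 15 32768 31671 t := by
  intro t ht
  obtain ⟨u, -, rfl⟩ := List.mem_map.mp ht
  exact good_tabs _ (tabOf_mem _)

theorem sgT_apply : ∀ ts ∈ sgT, applyT 15 32768 ts 0 = 0 := by
  intro ts hts
  exact Nat.eq_of_beq_eq_true (List.all_eq_true.mp sgT_ok ts hts)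

theorem φ_S : ∀ s ∈ S, φ (PresentedGroup.mk rels s) z = z := by
  intro s hs
  simp only [S, Set.mem_insert_iff, Set.mem_singleton_iff] at hs
  rcases hs with rfl | rfl | rfl | rfl | rfl | rfl | rfl | rfl | rfl
  · rw [sg0_eq, φ_mk]
    exact fix_of_apply _ (good_of_letters _) (sgT_apply sgT0 (by simp [sgT]))
  · rw [sg1_eq, φ_mk]
    exact fix_of_apply _ (good_of_letters _) (sgT_apply sgT1 (by simp [sgT]))
  · rw [sg2_eq, φ_mk]
    exact fix_of_apply _ (good_of_letters _) (sgT_apply sgT2 (by simp [sgT]))
  · rw [sg3_eq, φ_mk]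
    exact fix_of_apply _ (good_of_letters _) (sgT_apply sgT3 (by simp [sgT]))
  · rw [sg4_eq, φ_mk]
    exact fix_of_apply _ (good_of_letters _) (sgT_apply sgT4 (by simp [sgT]))
  · rw [sg5_eq, φ_mk]
    exact fix_of_apply _ (good_of_letters _) (sgT_apply sgT5 (by simp [sgT]))
  · rw [sg6_eq, φ_mk]
    exact fix_of_apply _ (good_of_letters _) (sgT_apply sgT6 (by simp [sgT]))
  · rw [sg7_eq, φ_mk]
    exact fix_of_apply _ (good_of_letters _) (sgT_apply sgT7 (by simp [sgT]))
  · rw [sg8_eq, φ_mk]
    exact fix_of_apply _ (good_of_letters _) (sgT_apply sgT8 (by simp [sgT]))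

theorem φ_H : ∀ h ∈ H, φ h z = z := by
  rintro _ ⟨s, hs, rfl⟩
  induction hs using Subgroup.closure_induction with
  | mem s hs => exact φ_S s hs
  | one => simp
  | mul a b _ _ iha ihb =>
    change φ (PresentedGroup.mk rels (a * b)) z = z
    rw [map_mul, map_mul, Equiv.Perm.mul_apply]
    change φ (PresentedGroup.mk rels b) z = z at ihb
    change φ (PresentedGroup.mk rels a) z = z at iha
    rw [ihb, iha]
  | inv a _ iha =>
    change φ (PresentedGroup.mk rels a⁻¹) z = z
    rw [map_inv, map_inv]
    have h2 : (φ (PresentedGroup.mk rels a))⁻¹ (φ (PresentedGroup.mk rels a) z) = z := by simp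
    change φ (PresentedGroup.mk rels a) z = z at iha
    rw [iha] at h2
    exact h2

theorem index_and_stab : H.index = 31671 ∧ ∀ g : G, φ g z = z → g ∈ H :=
  index_eq_and_stab H φ z (by decide) φ_trans φ_H upper.1 upper.2

theorem index_eq : H.index = 31671 := index_and_stab.1

end Cfsg.Agent.Lib.H17.Fi23Fi22
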