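import Cfsg.Agent.Lib.H17.Fi23Fi22.Lower
import Cfsg.Agent.Lib.H17.Fi23Fi22.OrbChk

set_option autoImplicit false
set_option maxRecDepth 100000

/-! # Orbits of the subgroup on its cosets, Fi23Fi22 (generated) -/

namespace Cfsg.Agent.Lib.H17.Fi23Fi22

open Cfsg.Spor Cfsg.Agent.Lib.H17.CosetCert Cfsg.Agent.Lib.H17.CoxGlue Cfsg.Agent.Lib.H17.Fi23Glue

theorem oclosedL0 : ∀ i < 31671, tb omask0 i = true → ∀ ts ∈ sgT, tb omask0 (applyTG L ts i) = true := by
  intro i hi
  have hc : i / 500 < 64 := by omega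
  interval_cases hq : i / 500
  · exact checkClosedG_sound L _ _ _ _ oclosed0_0 i (by omega) (by omega)
  · exact checkClosedG_sound L _ _ _ _ oclosed0_1 i (by omega) (by omega)
  · exact checkClosedG_sound L _ _ _ _ oclosed0_2 i (by omega) (by omega)
  · exact checkClosedG_sound L _ _ _ _ oclosed0_3 i (by omega) (by omega)
  · exact checkClosedG_sound L _ _ _ _ oclosed0_4 i (by omega) (by omega)
  · exact checkClosedG_sound L _ _ _ _ oclosed0_5 i (by omega) (by omega)
  · exact checkClosedG_sound L _ _ _ _ oclosed0_6 i (by omega) (by omega)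
  · exact checkClosedG_sound L _ _ _ _ oclosed0_7 i (by omega) (by omega)
  · exact checkClosedG_sound L _ _ _ _ oclosed0_8 i (by omega) (by omega)
  · exact checkClosedG_sound L _ _ _ _ oclosed0_9 i (by omega) (by omega)
  · exact checkClosedG_sound L _ _ _ _ oclosed0_10 i (by omega) (by omega)
  · exact checkClosedG_sound L _ _ _ _ oclosed0_11 i (by omega) (by omega)
  · exact checkClosedG_sound L _ _ _ _ oclosed0_12 i (by omega) (by omega)
  · exact checkClosedG_sound L _ _ _ _ oclosed0_13 i (by omega) (by omega)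
  · exact checkClosedG_sound L _ _ _ _ oclosed0_14 i (by omega) (by omega)
  · exact checkClosedG_sound L _ _ _ _ oclosed0_15 i (by omega) (by omega)
  · exact checkClosedG_sound L _ _ _ _ oclosed0_16 i (by omega) (by omega)
  · exact checkClosedG_sound L _ _ _ _ oclosed0_17 i (by omega) (by omega)
  · exact checkClosedG_sound L _ _ _ _ oclosed0_18 i (by omega) (by omega)
  · exact checkClosedG_sound L _ _ _ _ oclosed0_19 i (by omega) (by omega)
  · exact checkClosedG_sound L _ _ _ _ oclosed0_20 i (by omega) (by omega)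
  · exact checkClosedG_sound L _ _ _ _ oclosed0_21 i (by omega) (by omega)
  · exact checkClosedG_sound L _ _ _ _ oclosed0_22 i (by omega) (by omega)
  · exact checkClosedG_sound L _ _ _ _ oclosed0_23 i (by omega) (by omega)
  · exact checkClosedG_sound L _ _ _ _ oclosed0_24 i (by omega) (by omega)
  · exact checkClosedG_sound L _ _ _ _ oclosed0_25 i (by omega) (by omega)
  · exact checkClosedG_sound L _ _ _ _ oclosed0_26 i (by omega) (by omega)
  · exact checkClosedG_sound L _ _ _ _ oclosed0_27 i (by omega) (by omega)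
  · exact checkClosedG_sound L _ _ _ _ oclosed0_28 i (by omega) (by omega)
  · exact checkClosedG_sound L _ _ _ _ oclosed0_29 i (by omega) (by omega)
  · exact checkClosedG_sound L _ _ _ _ oclosed0_30 i (by omega) (by omega)
  · exact checkClosedG_sound L _ _ _ _ oclosed0_31 i (by omega) (by omega)
  · exact checkClosedG_sound L _ _ _ _ oclosed0_32 i (by omega) (by omega)
  · exact checkClosedG_sound L _ _ _ _ oclosed0_33 i (by omega) (by omega)
  · exact checkClosedG_sound L _ _ _ _ oclosed0_34 i (by omega) (by omega)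
  · exact checkClosedG_sound L _ _ _ _ oclosed0_35 i (by omega) (by omega)
  · exact checkClosedG_sound L _ _ _ _ oclosed0_36 i (by omega) (by omega)
  · exact checkClosedG_sound L _ _ _ _ oclosed0_37 i (by omega) (by omega)
  · exact checkClosedG_sound L _ _ _ _ oclosed0_38 i (by omega) (by omega)
  · exact checkClosedG_sound L _ _ _ _ oclosed0_39 i (by omega) (by omega)
  · exact checkClosedG_sound L _ _ _ _ oclosed0_40 i (by omega) (by omega)
  · exact checkClosedG_sound L _ _ _ _ oclosed0_41 i (by omega) (by omega)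
  · exact checkClosedG_sound L _ _ _ _ oclosed0_42 i (by omega) (by omega)
  · exact checkClosedG_sound L _ _ _ _ oclosed0_43 i (by omega) (by omega)
  · exact checkClosedG_sound L _ _ _ _ oclosed0_44 i (by omega) (by omega)
  · exact checkClosedG_sound L _ _ _ _ oclosed0_45 i (by omega) (by omega)
  · exact checkClosedG_sound L _ _ _ _ oclosed0_46 i (by omega) (by omega)
  · exact checkClosedG_sound L _ _ _ _ oclosed0_47 i (by omega) (by omega)
  · exact checkClosedG_sound L _ _ _ _ oclosed0_48 i (by omega) (by omega)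
  · exact checkClosedG_sound L _ _ _ _ oclosed0_49 i (by omega) (by omega)
  · exact checkClosedG_sound L _ _ _ _ oclosed0_50 i (by omega) (by omega)
  · exact checkClosedG_sound L _ _ _ _ oclosed0_51 i (by omega) (by omega)
  · exact checkClosedG_sound L _ _ _ _ oclosed0_52 i (by omega) (by omega)
  · exact checkClosedG_sound L _ _ _ _ oclosed0_53 i (by omega) (by omega)
  · exact checkClosedG_sound L _ _ _ _ oclosed0_54 i (by omega) (by omega)
  · exact checkClosedG_sound L _ _ _ _ oclosed0_55 i (by omega) (by omega)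
  · exact checkClosedG_sound L _ _ _ _ oclosed0_56 i (by omega) (by omega)
  · exact checkClosedG_sound L _ _ _ _ oclosed0_57 i (by omega) (by omega)
  · exact checkClosedG_sound L _ _ _ _ oclosed0_58 i (by omega) (by omega)
  · exact checkClosedG_sound L _ _ _ _ oclosed0_59 i (by omega) (by omega)
  · exact checkClosedG_sound L _ _ _ _ oclosed0_60 i (by omega) (by omega)
  · exact checkClosedG_sound L _ _ _ _ oclosed0_61 i (by omega) (by omega)
  · exact checkClosedG_sound L _ _ _ _ oclosed0_62 i (by omega) (by omega)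
  · exact checkClosedG_sound L _ _ _ _ oclosed0_63 i (by omega) (by omega)

theorem oclosed0 : ∀ i < 31671, tb omask0 i = true → ∀ ts ∈ sgT, tb omask0 (applyT 15 32768 ts i) = true := by
  intro i hi hb ts hts
  have := oclosedL0 i hi hb ts hts
  rw [applyL_eq] at this
  exact this

theorem oconnL0 : ∀ i < 31671, tb omask0 i = true → i ≠ 52 → ∃ ts ∈ sgT, tb omask0 (applyTG L ts i) = true ∧
    L hr (applyTG L ts i) < L hr i := by
  intro i hi
  have hc : i / 500 < 64 := by omega
  interval_cases hq : i / 500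
  · exact checkOrbConnG_sound L _ _ _ _ _ _ oconn0_0 i (by omega) (by omega)
  · exact checkOrbConnG_sound L _ _ _ _ _ _ oconn0_1 i (by omega) (by omega)
  · exact checkOrbConnG_sound L _ _ _ _ _ _ oconn0_2 i (by omega) (by omega)
  · exact checkOrbConnG_sound L _ _ _ _ _ _ oconn0_3 i (by omega) (by omega)
  · exact checkOrbConnG_sound L _ _ _ _ _ _ oconn0_4 i (by omega) (by omega)
  · exact checkOrbConnG_sound L _ _ _ _ _ _ oconn0_5 i (by omega) (by omega)
  · exact checkOrbConnG_sound L _ _ _ _ _ _ oconn0_6 i (by omega) (by omega)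
  · exact checkOrbConnG_sound L _ _ _ _ _ _ oconn0_7 i (by omega) (by omega)
  · exact checkOrbConnG_sound L _ _ _ _ _ _ oconn0_8 i (by omega) (by omega)
  · exact checkOrbConnG_sound L _ _ _ _ _ _ oconn0_9 i (by omega) (by omega)
  · exact checkOrbConnG_sound L _ _ _ _ _ _ oconn0_10 i (by omega) (by omega)
  · exact checkOrbConnG_sound L _ _ _ _ _ _ oconn0_11 i (by omega) (by omega)
  · exact checkOrbConnG_sound L _ _ _ _ _ _ oconn0_12 i (by omega) (by omega)
  · exact checkOrbConnG_sound L _ _ _ _ _ _ oconn0_13 i (by omega) (by omega)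
  · exact checkOrbConnG_sound L _ _ _ _ _ _ oconn0_14 i (by omega) (by omega)
  · exact checkOrbConnG_sound L _ _ _ _ _ _ oconn0_15 i (by omega) (by omega)
  · exact checkOrbConnG_sound L _ _ _ _ _ _ oconn0_16 i (by omega) (by omega)
  · exact checkOrbConnG_sound L _ _ _ _ _ _ oconn0_17 i (by omega) (by omega)
  · exact checkOrbConnG_sound L _ _ _ _ _ _ oconn0_18 i (by omega) (by omega)
  · exact checkOrbConnG_sound L _ _ _ _ _ _ oconn0_19 i (by omega) (by omega)
  · exact checkOrbConnG_sound L _ _ _ _ _ _ oconn0_20 i (by omega) (by omega)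
  · exact checkOrbConnG_sound L _ _ _ _ _ _ oconn0_21 i (by omega) (by omega)
  · exact checkOrbConnG_sound L _ _ _ _ _ _ oconn0_22 i (by omega) (by omega)
  · exact checkOrbConnG_sound L _ _ _ _ _ _ oconn0_23 i (by omega) (by omega)
  · exact checkOrbConnG_sound L _ _ _ _ _ _ oconn0_24 i (by omega) (by omega)
  · exact checkOrbConnG_sound L _ _ _ _ _ _ oconn0_25 i (by omega) (by omega)
  · exact checkOrbConnG_sound L _ _ _ _ _ _ oconn0_26 i (by omega) (by omega)
  · exact checkOrbConnG_sound L _ _ _ _ _ _ oconn0_27 i (by omega) (by omega)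
  · exact checkOrbConnG_sound L _ _ _ _ _ _ oconn0_28 i (by omega) (by omega)
  · exact checkOrbConnG_sound L _ _ _ _ _ _ oconn0_29 i (by omega) (by omega)
  · exact checkOrbConnG_sound L _ _ _ _ _ _ oconn0_30 i (by omega) (by omega)
  · exact checkOrbConnG_sound L _ _ _ _ _ _ oconn0_31 i (by omega) (by omega)
  · exact checkOrbConnG_sound L _ _ _ _ _ _ oconn0_32 i (by omega) (by omega)
  · exact checkOrbConnG_sound L _ _ _ _ _ _ oconn0_33 i (by omega) (by omega)
  · exact checkOrbConnG_sound L _ _ _ _ _ _ oconn0_34 i (by omega) (by omega)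
  · exact checkOrbConnG_sound L _ _ _ _ _ _ oconn0_35 i (by omega) (by omega)
  · exact checkOrbConnG_sound L _ _ _ _ _ _ oconn0_36 i (by omega) (by omega)
  · exact checkOrbConnG_sound L _ _ _ _ _ _ oconn0_37 i (by omega) (by omega)
  · exact checkOrbConnG_sound L _ _ _ _ _ _ oconn0_38 i (by omega) (by omega)
  · exact checkOrbConnG_sound L _ _ _ _ _ _ oconn0_39 i (by omega) (by omega)
  · exact checkOrbConnG_sound L _ _ _ _ _ _ oconn0_40 i (by omega) (by omega)
  · exact checkOrbConnG_sound L _ _ _ _ _ _ oconn0_41 i (by omega) (by omega)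
  · exact checkOrbConnG_sound L _ _ _ _ _ _ oconn0_42 i (by omega) (by omega)
  · exact checkOrbConnG_sound L _ _ _ _ _ _ oconn0_43 i (by omega) (by omega)
  · exact checkOrbConnG_sound L _ _ _ _ _ _ oconn0_44 i (by omega) (by omega)
  · exact checkOrbConnG_sound L _ _ _ _ _ _ oconn0_45 i (by omega) (by omega)
  · exact checkOrbConnG_sound L _ _ _ _ _ _ oconn0_46 i (by omega) (by omega)
  · exact checkOrbConnG_sound L _ _ _ _ _ _ oconn0_47 i (by omega) (by omega)
  · exact checkOrbConnG_sound L _ _ _ _ _ _ oconn0_48 i (by omega) (by omega)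
  · exact checkOrbConnG_sound L _ _ _ _ _ _ oconn0_49 i (by omega) (by omega)
  · exact checkOrbConnG_sound L _ _ _ _ _ _ oconn0_50 i (by omega) (by omega)
  · exact checkOrbConnG_sound L _ _ _ _ _ _ oconn0_51 i (by omega) (by omega)
  · exact checkOrbConnG_sound L _ _ _ _ _ _ oconn0_52 i (by omega) (by omega)
  · exact checkOrbConnG_sound L _ _ _ _ _ _ oconn0_53 i (by omega) (by omega)
  · exact checkOrbConnG_sound L _ _ _ _ _ _ oconn0_54 i (by omega) (by omega)
  · exact checkOrbConnG_sound L _ _ _ _ _ _ oconn0_55 i (by omega) (by omega)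
  · exact checkOrbConnG_sound L _ _ _ _ _ _ oconn0_56 i (by omega) (by omega)
  · exact checkOrbConnG_sound L _ _ _ _ _ _ oconn0_57 i (by omega) (by omega)
  · exact checkOrbConnG_sound L _ _ _ _ _ _ oconn0_58 i (by omega) (by omega)
  · exact checkOrbConnG_sound L _ _ _ _ _ _ oconn0_59 i (by omega) (by omega)
  · exact checkOrbConnG_sound L _ _ _ _ _ _ oconn0_60 i (by omega) (by omega)
  · exact checkOrbConnG_sound L _ _ _ _ _ _ oconn0_61 i (by omega) (by omega)
  · exact checkOrbConnG_sound L _ _ _ _ _ _ oconn0_62 i (by omega) (by omega)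
  · exact checkOrbConnG_sound L _ _ _ _ _ _ oconn0_63 i (by omega) (by omega)

theorem oconn0 : ∀ i < 31671, tb omask0 i = true → i ≠ 52 → ∃ ts ∈ sgT, tb omask0 (applyT 15 32768 ts i) = true ∧
    lk 15 32768 hr (applyT 15 32768 ts i) < lk 15 32768 hr i := by
  intro i hi hb hp
  obtain ⟨ts, hts, h1, h2⟩ := oconnL0 i hi hb hp
  simp only [L_eq, applyL_eq] at h1 h2
  exact ⟨ts, hts, h1, h2⟩

theorem oclosedL1 : ∀ i < 31671, tb omask1 i = true → ∀ ts ∈ sgT, tb omask1 (applyTG L ts i) = true := by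
  intro i hi
  have hc : i / 500 < 64 := by omega
  interval_cases hq : i / 500
  · exact checkClosedG_sound L _ _ _ _ oclosed1_0 i (by omega) (by omega)
  · exact checkClosedG_sound L _ _ _ _ oclosed1_1 i (by omega) (by omega)
  · exact checkClosedG_sound L _ _ _ _ oclosed1_2 i (by omega) (by omega)
  · exact checkClosedG_sound L _ _ _ _ oclosed1_3 i (by omega) (by omega)
  · exact checkClosedG_sound L _ _ _ _ oclosed1_4 i (by omega) (by omega)
  · exact checkClosedG_sound L _ _ _ _ oclosed1_5 i (by omega) (by omega)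
  · exact checkClosedG_sound L _ _ _ _ oclosed1_6 i (by omega) (by omega)
  · exact checkClosedG_sound L _ _ _ _ oclosed1_7 i (by omega) (by omega)
  · exact checkClosedG_sound L _ _ _ _ oclosed1_8 i (by omega) (by omega)
  · exact checkClosedG_sound L _ _ _ _ oclosed1_9 i (by omega) (by omega)
  · exact checkClosedG_sound L _ _ _ _ oclosed1_10 i (by omega) (by omega)
  · exact checkClosedG_sound L _ _ _ _ oclosed1_11 i (by omega) (by omega)
  · exact checkClosedG_sound L _ _ _ _ oclosed1_12 i (by omega) (by omega)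
  · exact checkClosedG_sound L _ _ _ _ oclosed1_13 i (by omega) (by omega)
  · exact checkClosedG_sound L _ _ _ _ oclosed1_14 i (by omega) (by omega)
  · exact checkClosedG_sound L _ _ _ _ oclosed1_15 i (by omega) (by omega)
  · exact checkClosedG_sound L _ _ _ _ oclosed1_16 i (by omega) (by omega)
  · exact checkClosedG_sound L _ _ _ _ oclosed1_17 i (by omega) (by omega)
  · exact checkClosedG_sound L _ _ _ _ oclosed1_18 i (by omega) (by omega)
  · exact checkClosedG_sound L _ _ _ _ oclosed1_19 i (by omega) (by omega)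
  · exact checkClosedG_sound L _ _ _ _ oclosed1_20 i (by omega) (by omega)
  · exact checkClosedG_sound L _ _ _ _ oclosed1_21 i (by omega) (by omega)
  · exact checkClosedG_sound L _ _ _ _ oclosed1_22 i (by omega) (by omega)
  · exact checkClosedG_sound L _ _ _ _ oclosed1_23 i (by omega) (by omega)
  · exact checkClosedG_sound L _ _ _ _ oclosed1_24 i (by omega) (by omega)
  · exact checkClosedG_sound L _ _ _ _ oclosed1_25 i (by omega) (by omega)
  · exact checkClosedG_sound L _ _ _ _ oclosed1_26 i (by omega) (by omega)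
  · exact checkClosedG_sound L _ _ _ _ oclosed1_27 i (by omega) (by omega)
  · exact checkClosedG_sound L _ _ _ _ oclosed1_28 i (by omega) (by omega)
  · exact checkClosedG_sound L _ _ _ _ oclosed1_29 i (by omega) (by omega)
  · exact checkClosedG_sound L _ _ _ _ oclosed1_30 i (by omega) (by omega)
  · exact checkClosedG_sound L _ _ _ _ oclosed1_31 i (by omega) (by omega)
  · exact checkClosedG_sound L _ _ _ _ oclosed1_32 i (by omega) (by omega)
  · exact checkClosedG_sound L _ _ _ _ oclosed1_33 i (by omega) (by omega)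
  · exact checkClosedG_sound L _ _ _ _ oclosed1_34 i (by omega) (by omega)
  · exact checkClosedG_sound L _ _ _ _ oclosed1_35 i (by omega) (by omega)
  · exact checkClosedG_sound L _ _ _ _ oclosed1_36 i (by omega) (by omega)
  · exact checkClosedG_sound L _ _ _ _ oclosed1_37 i (by omega) (by omega)
  · exact checkClosedG_sound L _ _ _ _ oclosed1_38 i (by omega) (by omega)
  · exact checkClosedG_sound L _ _ _ _ oclosed1_39 i (by omega) (by omega)
  · exact checkClosedG_sound L _ _ _ _ oclosed1_40 i (by omega) (by omega)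
  · exact checkClosedG_sound L _ _ _ _ oclosed1_41 i (by omega) (by omega)
  · exact checkClosedG_sound L _ _ _ _ oclosed1_42 i (by omega) (by omega)
  · exact checkClosedG_sound L _ _ _ _ oclosed1_43 i (by omega) (by omega)
  · exact checkClosedG_sound L _ _ _ _ oclosed1_44 i (by omega) (by omega)
  · exact checkClosedG_sound L _ _ _ _ oclosed1_45 i (by omega) (by omega)
  · exact checkClosedG_sound L _ _ _ _ oclosed1_46 i (by omega) (by omega)
  · exact checkClosedG_sound L _ _ _ _ oclosed1_47 i (by omega) (by omega)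
  · exact checkClosedG_sound L _ _ _ _ oclosed1_48 i (by omega) (by omega)
  · exact checkClosedG_sound L _ _ _ _ oclosed1_49 i (by omega) (by omega)
  · exact checkClosedG_sound L _ _ _ _ oclosed1_50 i (by omega) (by omega)
  · exact checkClosedG_sound L _ _ _ _ oclosed1_51 i (by omega) (by omega)
  · exact checkClosedG_sound L _ _ _ _ oclosed1_52 i (by omega) (by omega)
  · exact checkClosedG_sound L _ _ _ _ oclosed1_53 i (by omega) (by omega)
  · exact checkClosedG_sound L _ _ _ _ oclosed1_54 i (by omega) (by omega)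
  · exact checkClosedG_sound L _ _ _ _ oclosed1_55 i (by omega) (by omega)
  · exact checkClosedG_sound L _ _ _ _ oclosed1_56 i (by omega) (by omega)
  · exact checkClosedG_sound L _ _ _ _ oclosed1_57 i (by omega) (by omega)
  · exact checkClosedG_sound L _ _ _ _ oclosed1_58 i (by omega) (by omega)
  · exact checkClosedG_sound L _ _ _ _ oclosed1_59 i (by omega) (by omega)
  · exact checkClosedG_sound L _ _ _ _ oclosed1_60 i (by omega) (by omega)
  · exact checkClosedG_sound L _ _ _ _ oclosed1_61 i (by omega) (by omega)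
  · exact checkClosedG_sound L _ _ _ _ oclosed1_62 i (by omega) (by omega)
  · exact checkClosedG_sound L _ _ _ _ oclosed1_63 i (by omega) (by omega)

theorem oclosed1 : ∀ i < 31671, tb omask1 i = true → ∀ ts ∈ sgT, tb omask1 (applyT 15 32768 ts i) = true := by
  intro i hi hb ts hts
  have := oclosedL1 i hi hb ts hts
  rw [applyL_eq] at this
  exact this

theorem oconnL1 : ∀ i < 31671, tb omask1 i = true → i ≠ 1 → ∃ ts ∈ sgT, tb omask1 (applyTG L ts i) = true ∧
    L hr (applyTG L ts i) < L hr i := by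
  intro i hi
  have hc : i / 500 < 64 := by omega
  interval_cases hq : i / 500
  · exact checkOrbConnG_sound L _ _ _ _ _ _ oconn1_0 i (by omega) (by omega)
  · exact checkOrbConnG_sound L _ _ _ _ _ _ oconn1_1 i (by omega) (by omega)
  · exact checkOrbConnG_sound L _ _ _ _ _ _ oconn1_2 i (by omega) (by omega)
  · exact checkOrbConnG_sound L _ _ _ _ _ _ oconn1_3 i (by omega) (by omega)
  · exact checkOrbConnG_sound L _ _ _ _ _ _ oconn1_4 i (by omega) (by omega)
  · exact checkOrbConnG_sound L _ _ _ _ _ _ oconn1_5 i (by omega) (by omega)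
  · exact checkOrbConnG_sound L _ _ _ _ _ _ oconn1_6 i (by omega) (by omega)
  · exact checkOrbConnG_sound L _ _ _ _ _ _ oconn1_7 i (by omega) (by omega)
  · exact checkOrbConnG_sound L _ _ _ _ _ _ oconn1_8 i (by omega) (by omega)
  · exact checkOrbConnG_sound L _ _ _ _ _ _ oconn1_9 i (by omega) (by omega)
  · exact checkOrbConnG_sound L _ _ _ _ _ _ oconn1_10 i (by omega) (by omega)
  · exact checkOrbConnG_sound L _ _ _ _ _ _ oconn1_11 i (by omega) (by omega)
  · exact checkOrbConnG_sound L _ _ _ _ _ _ oconn1_12 i (by omega) (by omega)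
  · exact checkOrbConnG_sound L _ _ _ _ _ _ oconn1_13 i (by omega) (by omega)
  · exact checkOrbConnG_sound L _ _ _ _ _ _ oconn1_14 i (by omega) (by omega)
  · exact checkOrbConnG_sound L _ _ _ _ _ _ oconn1_15 i (by omega) (by omega)
  · exact checkOrbConnG_sound L _ _ _ _ _ _ oconn1_16 i (by omega) (by omega)
  · exact checkOrbConnG_sound L _ _ _ _ _ _ oconn1_17 i (by omega) (by omega)
  · exact checkOrbConnG_sound L _ _ _ _ _ _ oconn1_18 i (by omega) (by omega)
  · exact checkOrbConnG_sound L _ _ _ _ _ _ oconn1_19 i (by omega) (by omega)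
  · exact checkOrbConnG_sound L _ _ _ _ _ _ oconn1_20 i (by omega) (by omega)
  · exact checkOrbConnG_sound L _ _ _ _ _ _ oconn1_21 i (by omega) (by omega)
  · exact checkOrbConnG_sound L _ _ _ _ _ _ oconn1_22 i (by omega) (by omega)
  · exact checkOrbConnG_sound L _ _ _ _ _ _ oconn1_23 i (by omega) (by omega)
  · exact checkOrbConnG_sound L _ _ _ _ _ _ oconn1_24 i (by omega) (by omega)
  · exact checkOrbConnG_sound L _ _ _ _ _ _ oconn1_25 i (by omega) (by omega)
  · exact checkOrbConnG_sound L _ _ _ _ _ _ oconn1_26 i (by omega) (by omega)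
  · exact checkOrbConnG_sound L _ _ _ _ _ _ oconn1_27 i (by omega) (by omega)
  · exact checkOrbConnG_sound L _ _ _ _ _ _ oconn1_28 i (by omega) (by omega)
  · exact checkOrbConnG_sound L _ _ _ _ _ _ oconn1_29 i (by omega) (by omega)
  · exact checkOrbConnG_sound L _ _ _ _ _ _ oconn1_30 i (by omega) (by omega)
  · exact checkOrbConnG_sound L _ _ _ _ _ _ oconn1_31 i (by omega) (by omega)
  · exact checkOrbConnG_sound L _ _ _ _ _ _ oconn1_32 i (by omega) (by omega)
  · exact checkOrbConnG_sound L _ _ _ _ _ _ oconn1_33 i (by omega) (by omega)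
  · exact checkOrbConnG_sound L _ _ _ _ _ _ oconn1_34 i (by omega) (by omega)
  · exact checkOrbConnG_sound L _ _ _ _ _ _ oconn1_35 i (by omega) (by omega)
  · exact checkOrbConnG_sound L _ _ _ _ _ _ oconn1_36 i (by omega) (by omega)
  · exact checkOrbConnG_sound L _ _ _ _ _ _ oconn1_37 i (by omega) (by omega)
  · exact checkOrbConnG_sound L _ _ _ _ _ _ oconn1_38 i (by omega) (by omega)
  · exact checkOrbConnG_sound L _ _ _ _ _ _ oconn1_39 i (by omega) (by omega)
  · exact checkOrbConnG_sound L _ _ _ _ _ _ oconn1_40 i (by omega) (by omega)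
  · exact checkOrbConnG_sound L _ _ _ _ _ _ oconn1_41 i (by omega) (by omega)
  · exact checkOrbConnG_sound L _ _ _ _ _ _ oconn1_42 i (by omega) (by omega)
  · exact checkOrbConnG_sound L _ _ _ _ _ _ oconn1_43 i (by omega) (by omega)
  · exact checkOrbConnG_sound L _ _ _ _ _ _ oconn1_44 i (by omega) (by omega)
  · exact checkOrbConnG_sound L _ _ _ _ _ _ oconn1_45 i (by omega) (by omega)
  · exact checkOrbConnG_sound L _ _ _ _ _ _ oconn1_46 i (by omega) (by omega)
  · exact checkOrbConnG_sound L _ _ _ _ _ _ oconn1_47 i (by omega) (by omega)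
  · exact checkOrbConnG_sound L _ _ _ _ _ _ oconn1_48 i (by omega) (by omega)
  · exact checkOrbConnG_sound L _ _ _ _ _ _ oconn1_49 i (by omega) (by omega)
  · exact checkOrbConnG_sound L _ _ _ _ _ _ oconn1_50 i (by omega) (by omega)
  · exact checkOrbConnG_sound L _ _ _ _ _ _ oconn1_51 i (by omega) (by omega)
  · exact checkOrbConnG_sound L _ _ _ _ _ _ oconn1_52 i (by omega) (by omega)
  · exact checkOrbConnG_sound L _ _ _ _ _ _ oconn1_53 i (by omega) (by omega)
  · exact checkOrbConnG_sound L _ _ _ _ _ _ oconn1_54 i (by omega) (by omega)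
  · exact checkOrbConnG_sound L _ _ _ _ _ _ oconn1_55 i (by omega) (by omega)
  · exact checkOrbConnG_sound L _ _ _ _ _ _ oconn1_56 i (by omega) (by omega)
  · exact checkOrbConnG_sound L _ _ _ _ _ _ oconn1_57 i (by omega) (by omega)
  · exact checkOrbConnG_sound L _ _ _ _ _ _ oconn1_58 i (by omega) (by omega)
  · exact checkOrbConnG_sound L _ _ _ _ _ _ oconn1_59 i (by omega) (by omega)
  · exact checkOrbConnG_sound L _ _ _ _ _ _ oconn1_60 i (by omega) (by omega)
  · exact checkOrbConnG_sound L _ _ _ _ _ _ oconn1_61 i (by omega) (by omega)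
  · exact checkOrbConnG_sound L _ _ _ _ _ _ oconn1_62 i (by omega) (by omega)
  · exact checkOrbConnG_sound L _ _ _ _ _ _ oconn1_63 i (by omega) (by omega)

theorem oconn1 : ∀ i < 31671, tb omask1 i = true → i ≠ 1 → ∃ ts ∈ sgT, tb omask1 (applyT 15 32768 ts i) = true ∧
    lk 15 32768 hr (applyT 15 32768 ts i) < lk 15 32768 hr i := by
  intro i hi hb hp
  obtain ⟨ts, hts, h1, h2⟩ := oconnL1 i hi hb hp
  simp only [L_eq, applyL_eq] at h1 h2
  exact ⟨ts, hts, h1, h2⟩

/-- the images of the subgroup generators -/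
abbrev S' : Set G := PresentedGroup.mk rels '' S

theorem H_eq : H = Subgroup.closure S' := MonoidHom.map_closure _ _

theorem sgT_eq : sgT = [(sgL0.map Prod.fst).map tabOf, (sgL1.map Prod.fst).map tabOf, (sgL2.map Prod.fst).map tabOf, (sgL3.map Prod.fst).map tabOf, (sgL4.map Prod.fst).map tabOf, (sgL5.map Prod.fst).map tabOf, (sgL6.map Prod.fst).map tabOf, (sgL7.map Prod.fst).map tabOf, (sgL8.map Prod.fst).map tabOf] := by
  rfl

theorem good_sgT : ∀ ts ∈ sgT, ∀ t ∈ ts, Good 15 32768 31671 t := by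
  intro ts hts
  rw [sgT_eq] at hts
  simp only [List.mem_cons, List.not_mem_nil, or_false] at hts
  rcases hts with rfl | rfl | rfl | rfl | rfl | rfl | rfl | rfl | rfl <;> exact good_of_letters _

theorem S'_words : ∀ s ∈ S', ∃ ts ∈ sgT, φ s = (ts.map (σ 15 32768 31671)).prod := by
  rintro _ ⟨s, hs, rfl⟩
  simp only [S, Set.mem_insert_iff, Set.mem_singleton_iff] at hs
  rcases hs with rfl | rfl | rfl | rfl | rfl | rfl | rfl | rfl | rfl
  · exact ⟨sgT0, by simp [sgT], by rw [sg0_eq, φ_mk]; rfl⟩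
  · exact ⟨sgT1, by simp [sgT], by rw [sg1_eq, φ_mk]; rfl⟩
  · exact ⟨sgT2, by simp [sgT], by rw [sg2_eq, φ_mk]; rfl⟩
  · exact ⟨sgT3, by simp [sgT], by rw [sg3_eq, φ_mk]; rfl⟩
  · exact ⟨sgT4, by simp [sgT], by rw [sg4_eq, φ_mk]; rfl⟩
  · exact ⟨sgT5, by simp [sgT], by rw [sg5_eq, φ_mk]; rfl⟩
  · exact ⟨sgT6, by simp [sgT], by rw [sg6_eq, φ_mk]; rfl⟩
  · exact ⟨sgT7, by simp [sgT], by rw [sg7_eq, φ_mk]; rfl⟩
  · exact ⟨sgT8, by simp [sgT], by rw [sg8_eq, φ_mk]; rfl⟩

theorem words_S' : ∀ ts ∈ sgT, ∃ s ∈ S', φ s = (ts.map (σ 15 32768 31671)).prod := by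
  intro ts hts
  obtain ⟨k, hk, rfl⟩ := List.getElem_of_mem hts
  have hk' : k < 9 := hk
  interval_cases k
  · exact ⟨_, ⟨_, sg0_mem, rfl⟩, by rw [sg0_eq, φ_mk]; rfl⟩
  · exact ⟨_, ⟨_, sg1_mem, rfl⟩, by rw [sg1_eq, φ_mk]; rfl⟩
  · exact ⟨_, ⟨_, sg2_mem, rfl⟩, by rw [sg2_eq, φ_mk]; rfl⟩
  · exact ⟨_, ⟨_, sg3_mem, rfl⟩, by rw [sg3_eq, φ_mk]; rfl⟩
  · exact ⟨_, ⟨_, sg4_mem, rfl⟩, by rw [sg4_eq, φ_mk]; rfl⟩
  · exact ⟨_, ⟨_, sg5_mem, rfl⟩, by rw [sg5_eq, φ_mk]; rfl⟩
  · exact ⟨_, ⟨_, sg6_mem, rfl⟩, by rw [sg6_eq, φ_mk]; rfl⟩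
  · exact ⟨_, ⟨_, sg7_mem, rfl⟩, by rw [sg7_eq, φ_mk]; rfl⟩
  · exact ⟨_, ⟨_, sg8_mem, rfl⟩, by rw [sg8_eq, φ_mk]; rfl⟩

/-- orbit 0 -/
theorem orbit0 : ∃ q : G ⧸ H, ptOf H φ z φ_H q = ⟨52, by decide⟩ ∧
    ptOf H φ z φ_H '' (MulAction.orbit H q) = {i : Fin 31671 | tb omask0 i = true} ∧
    (MulAction.orbit H q).ncard = 3510 := by
  obtain ⟨g, hg⟩ := φ_trans ⟨52, by decide⟩
  refine ⟨(g : G ⧸ H), hg, ?_⟩
  have himg : ptOf H φ z φ_H '' (MulAction.orbit H (g : G ⧸ H)) =
      {i : Fin 31671 | tb omask0 i = true} := by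
    rw [ptOf_image_orbit, ptOf_mk, hg, H_eq]
    exact orbit_eq_mask' 15 32768 31671 φ S' omask0 hr ⟨52, by decide⟩ sgT good_sgT S'_words words_S'
      obase0 oclosed0 oconn0
  refine ⟨himg, ?_⟩
  rw [← Set.ncard_image_of_injective _ (ptOf_injective H φ z φ_H index_and_stab.2), himg,
    ncard_mask, ocount0]

/-- orbit 1 -/
theorem orbit1 : ∃ q : G ⧸ H, ptOf H φ z φ_H q = ⟨1, by decide⟩ ∧
    ptOf H φ z φ_H '' (MulAction.orbit H q) = {i : Fin 31671 | tb omask1 i = true} ∧
    (MulAction.orbit H q).ncard = 28160 := by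
  obtain ⟨g, hg⟩ := φ_trans ⟨1, by decide⟩
  refine ⟨(g : G ⧸ H), hg, ?_⟩
  have himg : ptOf H φ z φ_H '' (MulAction.orbit H (g : G ⧸ H)) =
      {i : Fin 31671 | tb omask1 i = true} := by
    rw [ptOf_image_orbit, ptOf_mk, hg, H_eq]
    exact orbit_eq_mask' 15 32768 31671 φ S' omask1 hr ⟨1, by decide⟩ sgT good_sgT S'_words words_S'
      obase1 oclosed1 oconn1
  refine ⟨himg, ?_⟩
  rw [← Set.ncard_image_of_injective _ (ptOf_injective H φ z φ_H index_and_stab.2), himg,
    ncard_mask, ocount1]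

end Cfsg.Agent.Lib.H17.Fi23Fi22
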