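import Cfsg.Agent.Lib.H17.Fi23Fi22.StepsA
import Cfsg.Agent.Lib.H17.Fi23Fi22.StepsB
import Cfsg.Agent.Lib.H17.Fi23Fi22.StepsC
import Cfsg.Agent.Lib.H17.Fi23Fi22.StepsD
import Cfsg.Agent.Lib.H17.Fi23Fi22.StepsE
import Cfsg.Agent.Lib.H17.Fi23Fi22.StepsF
import Cfsg.Agent.Lib.H17.Fi23Fi22.StepsG
import Cfsg.Agent.Lib.H17.Fi23Fi22.StepsH
import Cfsg.Agent.Lib.H17.Fi23Fi22.StepsI
import Cfsg.Agent.Lib.H17.Fi23Fi22.StepsJ
import Cfsg.Agent.Lib.H17.Fi23Fi22.StepsK
import Cfsg.Agent.Lib.H17.Fi23Fi22.Rows

set_option autoImplicit false
set_option maxRecDepth 100000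

/-! # Upper bound for the index, Fi23Fi22 (generated) -/

namespace Cfsg.Agent.Lib.H17.Fi23Fi22

open Cfsg.Spor Cfsg.Agent.Lib.H17.CosetCert Cfsg.Agent.Lib.H17.CoxGlue Cfsg.Agent.Lib.H17.Fi23Glue

/-- the presented group -/
abbrev G : Type := PresentedGroup rels

/-- the subgroup generators as words -/
abbrev S : Set (FreeGroup Gen) :=
  {Cfsg.Spor.Fi23.a, Cfsg.Spor.Fi23.b, Cfsg.Spor.Fi23.c, Cfsg.Spor.Fi23.d, Cfsg.Spor.Fi23.e, Cfsg.Spor.Fi23.f, Cfsg.Spor.Fi23.g, Cfsg.Spor.Fi23.h, Cfsg.Spor.Fi23.i}

/-- the subgroup -/
abbrev H : Subgroup G := (Subgroup.closure S).map (PresentedGroup.mk rels)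

/-- the generator images -/
noncomputable def γ (x : ℕ) : G := PresentedGroup.of (gen x)

theorem γ_mul_self (x : ℕ) : γ x * γ x = 1 := of_mul_self _

/-- letters of subgroup generator 0 -/
def sgL0 : List (Gen × Bool) := [(.a, true)]

theorem sg0_eq : (Cfsg.Spor.Fi23.a : FreeGroup Gen) = FreeGroup.mk sgL0 := by rfl

theorem sg0_mem : (Cfsg.Spor.Fi23.a : FreeGroup Gen) ∈ S := by
  simp [S]

/-- letters of subgroup generator 1 -/
def sgL1 : List (Gen × Bool) := [(.b, true)]

theorem sg1_eq : (Cfsg.Spor.Fi23.b : FreeGroup Gen) = FreeGroup.mk sgL1 := by rfl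

theorem sg1_mem : (Cfsg.Spor.Fi23.b : FreeGroup Gen) ∈ S := by
  simp [S]

/-- letters of subgroup generator 2 -/
def sgL2 : List (Gen × Bool) := [(.c, true)]

theorem sg2_eq : (Cfsg.Spor.Fi23.c : FreeGroup Gen) = FreeGroup.mk sgL2 := by rfl

theorem sg2_mem : (Cfsg.Spor.Fi23.c : FreeGroup Gen) ∈ S := by
  simp [S]

/-- letters of subgroup generator 3 -/
def sgL3 : List (Gen × Bool) := [(.d, true)]

theorem sg3_eq : (Cfsg.Spor.Fi23.d : FreeGroup Gen) = FreeGroup.mk sgL3 := by rfl

theorem sg3_mem : (Cfsg.Spor.Fi23.d : FreeGroup Gen) ∈ S := by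
  simp [S]

/-- letters of subgroup generator 4 -/
def sgL4 : List (Gen × Bool) := [(.e, true)]

theorem sg4_eq : (Cfsg.Spor.Fi23.e : FreeGroup Gen) = FreeGroup.mk sgL4 := by rfl

theorem sg4_mem : (Cfsg.Spor.Fi23.e : FreeGroup Gen) ∈ S := by
  simp [S]

/-- letters of subgroup generator 5 -/
def sgL5 : List (Gen × Bool) := [(.f, true)]

theorem sg5_eq : (Cfsg.Spor.Fi23.f : FreeGroup Gen) = FreeGroup.mk sgL5 := by rfl

theorem sg5_mem : (Cfsg.Spor.Fi23.f : FreeGroup Gen) ∈ S := by
  simp [S]

/-- letters of subgroup generator 6 -/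
def sgL6 : List (Gen × Bool) := [(.g, true)]

theorem sg6_eq : (Cfsg.Spor.Fi23.g : FreeGroup Gen) = FreeGroup.mk sgL6 := by rfl

theorem sg6_mem : (Cfsg.Spor.Fi23.g : FreeGroup Gen) ∈ S := by
  simp [S]

/-- letters of subgroup generator 7 -/
def sgL7 : List (Gen × Bool) := [(.h, true)]

theorem sg7_eq : (Cfsg.Spor.Fi23.h : FreeGroup Gen) = FreeGroup.mk sgL7 := by rfl

theorem sg7_mem : (Cfsg.Spor.Fi23.h : FreeGroup Gen) ∈ S := by
  simp [S]

/-- letters of subgroup generator 8 -/
def sgL8 : List (Gen × Bool) := [(.i, true)]

theorem sg8_eq : (Cfsg.Spor.Fi23.i : FreeGroup Gen) = FreeGroup.mk sgL8 := by rfl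

theorem sg8_mem : (Cfsg.Spor.Fi23.i : FreeGroup Gen) ∈ S := by
  simp [S]

theorem mk_mk (L : List (Gen × Bool)) : PresentedGroup.mk rels (FreeGroup.mk L) =
    ((L.map Prod.fst).map (PresentedGroup.of (rels := rels))).prod := by
  rw [mk_eq_lift, lift_mk_of_invol _ of_mul_self]

theorem sgW_mem : ∀ v ∈ sgW, (v.map γ).prod ∈ H := by
  intro v hv
  obtain ⟨t, ht, rfl⟩ := List.getElem_of_mem hv
  have ht' : t < 9 := ht
  interval_cases t
  · have h1 : PresentedGroup.mk rels (FreeGroup.mk sgL0) ∈ H :=
      Subgroup.mem_map_of_mem _ (Subgroup.subset_closure (sg0_eq ▸ sg0_mem))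
    rw [mk_mk] at h1
    exact h1
  · have h1 : PresentedGroup.mk rels (FreeGroup.mk sgL1) ∈ H :=
      Subgroup.mem_map_of_mem _ (Subgroup.subset_closure (sg1_eq ▸ sg1_mem))
    rw [mk_mk] at h1
    exact h1
  · have h1 : PresentedGroup.mk rels (FreeGroup.mk sgL2) ∈ H :=
      Subgroup.mem_map_of_mem _ (Subgroup.subset_closure (sg2_eq ▸ sg2_mem))
    rw [mk_mk] at h1
    exact h1
  · have h1 : PresentedGroup.mk rels (FreeGroup.mk sgL3) ∈ H :=
      Subgroup.mem_map_of_mem _ (Subgroup.subset_closure (sg3_eq ▸ sg3_mem))
    rw [mk_mk] at h1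
    exact h1
  · have h1 : PresentedGroup.mk rels (FreeGroup.mk sgL4) ∈ H :=
      Subgroup.mem_map_of_mem _ (Subgroup.subset_closure (sg4_eq ▸ sg4_mem))
    rw [mk_mk] at h1
    exact h1
  · have h1 : PresentedGroup.mk rels (FreeGroup.mk sgL5) ∈ H :=
      Subgroup.mem_map_of_mem _ (Subgroup.subset_closure (sg5_eq ▸ sg5_mem))
    rw [mk_mk] at h1
    exact h1
  · have h1 : PresentedGroup.mk rels (FreeGroup.mk sgL6) ∈ H :=
      Subgroup.mem_map_of_mem _ (Subgroup.subset_closure (sg6_eq ▸ sg6_mem))
    rw [mk_mk] at h1
    exact h1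
  · have h1 : PresentedGroup.mk rels (FreeGroup.mk sgL7) ∈ H :=
      Subgroup.mem_map_of_mem _ (Subgroup.subset_closure (sg7_eq ▸ sg7_mem))
    rw [mk_mk] at h1
    exact h1
  · have h1 : PresentedGroup.mk rels (FreeGroup.mk sgL8) ∈ H :=
      Subgroup.mem_map_of_mem _ (Subgroup.subset_closure (sg8_eq ▸ sg8_mem))
    rw [mk_mk] at h1
    exact h1

theorem words_OK : WordsOK γ ((1 : G) : G ⧸ H) words := by
  intro v hv
  obtain ⟨h1, h2⟩ := words_ok v hv
  constructor
  · intro hr q
    apply act_eq_of_prod_eq_one γ γ_mul_self
    have := relW_trivial _ (h1 hr)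
    rw [List.map_map] at this
    exact this
  · intro hr
    have hmem := sgW_mem _ (h2 hr)
    rw [act_eq_smul, prod_reverse_of_invol γ γ_mul_self]
    have hinvmem : ((v.1.map γ).prod)⁻¹ ∈ H := inv_mem hmem
    rw [MulAction.Quotient.smul_mk, smul_eq_mul, mul_one]
    apply Quotient.sound'
    rw [QuotientGroup.leftRel_apply]
    simpa using hmem

theorem inv_all : Inv F 10 γ ((1 : G) : G ⧸ H) 208295 41842 := by
  have h0 := inv_zero F 10 γ ((1 : G) : G ⧸ H)
  have h1 := checkSteps_sound F 10 16777216 γ γ_mul_self _ words words_OK steps0 0 1 305 h0 chk0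
  rw [len0] at h1
  have h2 := checkSteps_sound F 10 16777216 γ γ_mul_self _ words words_OK steps1 2000 305 633 h1 chk1
  rw [len1] at h2
  have h3 := checkSteps_sound F 10 16777216 γ γ_mul_self _ words words_OK steps2 4000 633 989 h2 chk2
  rw [len2] at h3
  have h4 := checkSteps_sound F 10 16777216 γ γ_mul_self _ words words_OK steps3 6000 989 1356 h3 chk3
  rw [len3] at h4
  have h5 := checkSteps_sound F 10 16777216 γ γ_mul_self _ words words_OK steps4 8000 1356 1728 h4 chk4
  rw [len4] at h5
  have h6 := checkSteps_sound F 10 16777216 γ γ_mul_self _ words words_OK steps5 10000 1728 2151 h5 chk5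
  rw [len5] at h6
  have h7 := checkSteps_sound F 10 16777216 γ γ_mul_self _ words words_OK steps6 12000 2151 2521 h6 chk6
  rw [len6] at h7
  have h8 := checkSteps_sound F 10 16777216 γ γ_mul_self _ words words_OK steps7 14000 2521 2999 h7 chk7
  rw [len7] at h8
  have h9 := checkSteps_sound F 10 16777216 γ γ_mul_self _ words words_OK steps8 16000 2999 3379 h8 chk8
  rw [len8] at h9
  have h10 := checkSteps_sound F 10 16777216 γ γ_mul_self _ words words_OK steps9 18000 3379 3873 h9 chk9
  rw [len9] at h10
  have h11 := checkSteps_sound F 10 16777216 γ γ_mul_self _ words words_OK steps10 20000 3873 4336 h10 chk10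
  rw [len10] at h11
  have h12 := checkSteps_sound F 10 16777216 γ γ_mul_self _ words words_OK steps11 22000 4336 4756 h11 chk11
  rw [len11] at h12
  have h13 := checkSteps_sound F 10 16777216 γ γ_mul_self _ words words_OK steps12 24000 4756 5300 h12 chk12
  rw [len12] at h13
  have h14 := checkSteps_sound F 10 16777216 γ γ_mul_self _ words words_OK steps13 26000 5300 5840 h13 chk13
  rw [len13] at h14
  have h15 := checkSteps_sound F 10 16777216 γ γ_mul_self _ words words_OK steps14 28000 5840 6258 h14 chk14
  rw [len14] at h15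
  have h16 := checkSteps_sound F 10 16777216 γ γ_mul_self _ words words_OK steps15 30000 6258 6756 h15 chk15
  rw [len15] at h16
  have h17 := checkSteps_sound F 10 16777216 γ γ_mul_self _ words words_OK steps16 32000 6756 7436 h16 chk16
  rw [len16] at h17
  have h18 := checkSteps_sound F 10 16777216 γ γ_mul_self _ words words_OK steps17 34000 7436 7931 h17 chk17
  rw [len17] at h18
  have h19 := checkSteps_sound F 10 16777216 γ γ_mul_self _ words words_OK steps18 36000 7931 8360 h18 chk18
  rw [len18] at h19
  have h20 := checkSteps_sound F 10 16777216 γ γ_mul_self _ words words_OK steps19 38000 8360 8804 h19 chk19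
  rw [len19] at h20
  have h21 := checkSteps_sound F 10 16777216 γ γ_mul_self _ words words_OK steps20 40000 8804 9486 h20 chk20
  rw [len20] at h21
  have h22 := checkSteps_sound F 10 16777216 γ γ_mul_self _ words words_OK steps21 42000 9486 10228 h21 chk21
  rw [len21] at h22
  have h23 := checkSteps_sound F 10 16777216 γ γ_mul_self _ words words_OK steps22 44000 10228 10617 h22 chk22
  rw [len22] at h23
  have h24 := checkSteps_sound F 10 16777216 γ γ_mul_self _ words words_OK steps23 46000 10617 11119 h23 chk23
  rw [len23] at h24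
  have h25 := checkSteps_sound F 10 16777216 γ γ_mul_self _ words words_OK steps24 48000 11119 11599 h24 chk24
  rw [len24] at h25
  have h26 := checkSteps_sound F 10 16777216 γ γ_mul_self _ words words_OK steps25 50000 11599 12254 h25 chk25
  rw [len25] at h26
  have h27 := checkSteps_sound F 10 16777216 γ γ_mul_self _ words words_OK steps26 52000 12254 13059 h26 chk26
  rw [len26] at h27
  have h28 := checkSteps_sound F 10 16777216 γ γ_mul_self _ words words_OK steps27 54000 13059 13568 h27 chk27
  rw [len27] at h28
  have h29 := checkSteps_sound F 10 16777216 γ γ_mul_self _ words words_OK steps28 56000 13568 14035 h28 chk28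
  rw [len28] at h29
  have h30 := checkSteps_sound F 10 16777216 γ γ_mul_self _ words words_OK steps29 58000 14035 14549 h29 chk29
  rw [len29] at h30
  have h31 := checkSteps_sound F 10 16777216 γ γ_mul_self _ words words_OK steps30 60000 14549 15059 h30 chk30
  rw [len30] at h31
  have h32 := checkSteps_sound F 10 16777216 γ γ_mul_self _ words words_OK steps31 62000 15059 15648 h31 chk31
  rw [len31] at h32
  have h33 := checkSteps_sound F 10 16777216 γ γ_mul_self _ words words_OK steps32 64000 15648 16468 h32 chk32
  rw [len32] at h33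
  have h34 := checkSteps_sound F 10 16777216 γ γ_mul_self _ words words_OK steps33 66000 16468 17074 h33 chk33
  rw [len33] at h34
  have h35 := checkSteps_sound F 10 16777216 γ γ_mul_self _ words words_OK steps34 68000 17074 17490 h34 chk34
  rw [len34] at h35
  have h36 := checkSteps_sound F 10 16777216 γ γ_mul_self _ words words_OK steps35 70000 17490 18046 h35 chk35
  rw [len35] at h36
  have h37 := checkSteps_sound F 10 16777216 γ γ_mul_self _ words words_OK steps36 72000 18046 18579 h36 chk36
  rw [len36] at h37
  have h38 := checkSteps_sound F 10 16777216 γ γ_mul_self _ words words_OK steps37 74000 18579 19113 h37 chk37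
  rw [len37] at h38
  have h39 := checkSteps_sound F 10 16777216 γ γ_mul_self _ words words_OK steps38 76000 19113 19692 h38 chk38
  rw [len38] at h39
  have h40 := checkSteps_sound F 10 16777216 γ γ_mul_self _ words words_OK steps39 78000 19692 20485 h39 chk39
  rw [len39] at h40
  have h41 := checkSteps_sound F 10 16777216 γ γ_mul_self _ words words_OK steps40 80000 20485 21030 h40 chk40
  rw [len40] at h41
  have h42 := checkSteps_sound F 10 16777216 γ γ_mul_self _ words words_OK steps41 82000 21030 21461 h41 chk41
  rw [len41] at h42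
  have h43 := checkSteps_sound F 10 16777216 γ γ_mul_self _ words words_OK steps42 84000 21461 21951 h42 chk42
  rw [len42] at h43
  have h44 := checkSteps_sound F 10 16777216 γ γ_mul_self _ words words_OK steps43 86000 21951 22553 h43 chk43
  rw [len43] at h44
  have h45 := checkSteps_sound F 10 16777216 γ γ_mul_self _ words words_OK steps44 88000 22553 23065 h44 chk44
  rw [len44] at h45
  have h46 := checkSteps_sound F 10 16777216 γ γ_mul_self _ words words_OK steps45 90000 23065 23639 h45 chk45
  rw [len45] at h46
  have h47 := checkSteps_sound F 10 16777216 γ γ_mul_self _ words words_OK steps46 92000 23639 23742 h46 chk46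
  rw [len46] at h47
  have h48 := checkSteps_sound F 10 16777216 γ γ_mul_self _ words words_OK steps47 94000 23742 23742 h47 chk47
  rw [len47] at h48
  have h49 := checkSteps_sound F 10 16777216 γ γ_mul_self _ words words_OK steps48 96000 23742 23742 h48 chk48
  rw [len48] at h49
  have h50 := checkSteps_sound F 10 16777216 γ γ_mul_self _ words words_OK steps49 98000 23742 23742 h49 chk49
  rw [len49] at h50
  have h51 := checkSteps_sound F 10 16777216 γ γ_mul_self _ words words_OK steps50 100000 23742 23742 h50 chk50
  rw [len50] at h51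
  have h52 := checkSteps_sound F 10 16777216 γ γ_mul_self _ words words_OK steps51 102000 23742 24073 h51 chk51
  rw [len51] at h52
  have h53 := checkSteps_sound F 10 16777216 γ γ_mul_self _ words words_OK steps52 104000 24073 24380 h52 chk52
  rw [len52] at h53
  have h54 := checkSteps_sound F 10 16777216 γ γ_mul_self _ words words_OK steps53 106000 24380 24728 h53 chk53
  rw [len53] at h54
  have h55 := checkSteps_sound F 10 16777216 γ γ_mul_self _ words words_OK steps54 108000 24728 25093 h54 chk54
  rw [len54] at h55
  have h56 := checkSteps_sound F 10 16777216 γ γ_mul_self _ words words_OK steps55 110000 25093 25442 h55 chk55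
  rw [len55] at h56
  have h57 := checkSteps_sound F 10 16777216 γ γ_mul_self _ words words_OK steps56 112000 25442 25904 h56 chk56
  rw [len56] at h57
  have h58 := checkSteps_sound F 10 16777216 γ γ_mul_self _ words words_OK steps57 114000 25904 26254 h57 chk57
  rw [len57] at h58
  have h59 := checkSteps_sound F 10 16777216 γ γ_mul_self _ words words_OK steps58 116000 26254 26556 h58 chk58
  rw [len58] at h59
  have h60 := checkSteps_sound F 10 16777216 γ γ_mul_self _ words words_OK steps59 118000 26556 26875 h59 chk59
  rw [len59] at h60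
  have h61 := checkSteps_sound F 10 16777216 γ γ_mul_self _ words words_OK steps60 120000 26875 27251 h60 chk60
  rw [len60] at h61
  have h62 := checkSteps_sound F 10 16777216 γ γ_mul_self _ words words_OK steps61 122000 27251 27603 h61 chk61
  rw [len61] at h62
  have h63 := checkSteps_sound F 10 16777216 γ γ_mul_self _ words words_OK steps62 124000 27603 28083 h62 chk62
  rw [len62] at h63
  have h64 := checkSteps_sound F 10 16777216 γ γ_mul_self _ words words_OK steps63 126000 28083 28402 h63 chk63
  rw [len63] at h64
  have h65 := checkSteps_sound F 10 16777216 γ γ_mul_self _ words words_OK steps64 128000 28402 28696 h64 chk64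
  rw [len64] at h65
  have h66 := checkSteps_sound F 10 16777216 γ γ_mul_self _ words words_OK steps65 130000 28696 29049 h65 chk65
  rw [len65] at h66
  have h67 := checkSteps_sound F 10 16777216 γ γ_mul_self _ words words_OK steps66 132000 29049 29412 h66 chk66
  rw [len66] at h67
  have h68 := checkSteps_sound F 10 16777216 γ γ_mul_self _ words words_OK steps67 134000 29412 29800 h67 chk67
  rw [len67] at h68
  have h69 := checkSteps_sound F 10 16777216 γ γ_mul_self _ words words_OK steps68 136000 29800 30236 h68 chk68
  rw [len68] at h69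
  have h70 := checkSteps_sound F 10 16777216 γ γ_mul_self _ words words_OK steps69 138000 30236 30527 h69 chk69
  rw [len69] at h70
  have h71 := checkSteps_sound F 10 16777216 γ γ_mul_self _ words words_OK steps70 140000 30527 30852 h70 chk70
  rw [len70] at h71
  have h72 := checkSteps_sound F 10 16777216 γ γ_mul_self _ words words_OK steps71 142000 30852 31223 h71 chk71
  rw [len71] at h72
  have h73 := checkSteps_sound F 10 16777216 γ γ_mul_self _ words words_OK steps72 144000 31223 31632 h72 chk72
  rw [len72] at h73
  have h74 := checkSteps_sound F 10 16777216 γ γ_mul_self _ words words_OK steps73 146000 31632 32011 h73 chk73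
  rw [len73] at h74
  have h75 := checkSteps_sound F 10 16777216 γ γ_mul_self _ words words_OK steps74 148000 32011 32296 h74 chk74
  rw [len74] at h75
  have h76 := checkSteps_sound F 10 16777216 γ γ_mul_self _ words words_OK steps75 150000 32296 32635 h75 chk75
  rw [len75] at h76
  have h77 := checkSteps_sound F 10 16777216 γ γ_mul_self _ words words_OK steps76 152000 32635 33005 h76 chk76
  rw [len76] at h77
  have h78 := checkSteps_sound F 10 16777216 γ γ_mul_self _ words words_OK steps77 154000 33005 33433 h77 chk77
  rw [len77] at h78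
  have h79 := checkSteps_sound F 10 16777216 γ γ_mul_self _ words words_OK steps78 156000 33433 33711 h78 chk78
  rw [len78] at h79
  have h80 := checkSteps_sound F 10 16777216 γ γ_mul_self _ words words_OK steps79 158000 33711 34061 h79 chk79
  rw [len79] at h80
  have h81 := checkSteps_sound F 10 16777216 γ γ_mul_self _ words words_OK steps80 160000 34061 34564 h80 chk80
  rw [len80] at h81
  have h82 := checkSteps_sound F 10 16777216 γ γ_mul_self _ words words_OK steps81 162000 34564 34850 h81 chk81
  rw [len81] at h82
  have h83 := checkSteps_sound F 10 16777216 γ γ_mul_self _ words words_OK steps82 164000 34850 35210 h82 chk82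
  rw [len82] at h83
  have h84 := checkSteps_sound F 10 16777216 γ γ_mul_self _ words words_OK steps83 166000 35210 35737 h83 chk83
  rw [len83] at h84
  have h85 := checkSteps_sound F 10 16777216 γ γ_mul_self _ words words_OK steps84 168000 35737 36033 h84 chk84
  rw [len84] at h85
  have h86 := checkSteps_sound F 10 16777216 γ γ_mul_self _ words words_OK steps85 170000 36033 36420 h85 chk85
  rw [len85] at h86
  have h87 := checkSteps_sound F 10 16777216 γ γ_mul_self _ words words_OK steps86 172000 36420 36931 h86 chk86
  rw [len86] at h87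
  have h88 := checkSteps_sound F 10 16777216 γ γ_mul_self _ words words_OK steps87 174000 36931 37226 h87 chk87
  rw [len87] at h88
  have h89 := checkSteps_sound F 10 16777216 γ γ_mul_self _ words words_OK steps88 176000 37226 37602 h88 chk88
  rw [len88] at h89
  have h90 := checkSteps_sound F 10 16777216 γ γ_mul_self _ words words_OK steps89 178000 37602 38099 h89 chk89
  rw [len89] at h90
  have h91 := checkSteps_sound F 10 16777216 γ γ_mul_self _ words words_OK steps90 180000 38099 38383 h90 chk90
  rw [len90] at h91
  have h92 := checkSteps_sound F 10 16777216 γ γ_mul_self _ words words_OK steps91 182000 38383 38732 h91 chk91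
  rw [len91] at h92
  have h93 := checkSteps_sound F 10 16777216 γ γ_mul_self _ words words_OK steps92 184000 38732 39186 h92 chk92
  rw [len92] at h93
  have h94 := checkSteps_sound F 10 16777216 γ γ_mul_self _ words words_OK steps93 186000 39186 39461 h93 chk93
  rw [len93] at h94
  have h95 := checkSteps_sound F 10 16777216 γ γ_mul_self _ words words_OK steps94 188000 39461 39825 h94 chk94
  rw [len94] at h95
  have h96 := checkSteps_sound F 10 16777216 γ γ_mul_self _ words words_OK steps95 190000 39825 40189 h95 chk95
  rw [len95] at h96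
  have h97 := checkSteps_sound F 10 16777216 γ γ_mul_self _ words words_OK steps96 192000 40189 40525 h96 chk96
  rw [len96] at h97
  have h98 := checkSteps_sound F 10 16777216 γ γ_mul_self _ words words_OK steps97 194000 40525 40870 h97 chk97
  rw [len97] at h98
  have h99 := checkSteps_sound F 10 16777216 γ γ_mul_self _ words words_OK steps98 196000 40870 41231 h98 chk98
  rw [len98] at h99
  have h100 := checkSteps_sound F 10 16777216 γ γ_mul_self _ words words_OK steps99 198000 41231 41558 h99 chk99
  rw [len99] at h100
  have h101 := checkSteps_sound F 10 16777216 γ γ_mul_self _ words words_OK steps100 200000 41558 41842 h100 chk100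
  rw [len100] at h101
  have h102 := checkSteps_sound F 10 16777216 γ γ_mul_self _ words words_OK steps101 202000 41842 41842 h101 chk101
  rw [len101] at h102
  have h103 := checkSteps_sound F 10 16777216 γ γ_mul_self _ words words_OK steps102 204000 41842 41842 h102 chk102
  rw [len102] at h103
  have h104 := checkSteps_sound F 10 16777216 γ γ_mul_self _ words words_OK steps103 206000 41842 41842 h103 chk103
  rw [len103] at h104
  have h105 := checkSteps_sound F 10 16777216 γ γ_mul_self _ words words_OK steps104 208000 41842 41842 h104 chk104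
  rw [len104] at h105
  exact h105

theorem gens_top : Subgroup.closure {g : G | ∃ x < 10, g = γ x} = ⊤ := closure_gens

theorem upper : Finite (G ⧸ H) ∧ Nat.card (G ⧸ H) ≤ 31671 := by
  have := card_le F 10 16777216 γ γ_mul_self _ 208295 41842 inv_all rows mask mask_ok mask_zero rows_ok gens_top
  rw [rows_length] at this
  exact this

end Cfsg.Agent.Lib.H17.Fi23Fi22
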